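import Mathlib

/-!
# A Sylow subgroup of prime order and its normalizer
-/

set_option autoImplicit false

namespace CfsgLib.Char.HalfDegree

variable {G : Type*} [Group G] [Finite G] {p : ℕ} [Fact p.Prime] {x : G}

theorem isSylow_zpowers (hsq : ¬ p ^ 2 ∣ Nat.card G) (hx : orderOf x = p) :
    ∃ S : Sylow p G, (S : Subgroup G) = Subgroup.zpowers x := by
  have hP : IsPGroup p (Subgroup.zpowers x) := IsPGroup.of_card (n := 1) (by rw [Nat.card_zpowers, hx, pow_one])
  obtain ⟨S, hS⟩ := hP.exists_le_sylow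
  refine ⟨S, (Subgroup.eq_of_le_of_card_ge hS ?_).symm⟩
  obtain ⟨n, hn⟩ := S.2.exists_card_eq
  rw [Nat.card_zpowers, hx, hn]
  have hd : p ^ n ∣ Nat.card G := hn ▸ Subgroup.card_subgroup_dvd_card _
  rcases Nat.lt_or_ge n 2 with h | h
  · calc p ^ n ≤ p ^ 1 := Nat.pow_le_pow_right (Fact.out : p.Prime).pos (by omega)
      _ = p := pow_one p
  · exact absurd ((pow_dvd_pow p h).trans hd) hsq

theorem mem_zpowers_of_normalizes (hsq : ¬ p ^ 2 ∣ Nat.card G) (hx : orderOf x = p) {c : G}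
    (hc : c ∈ Subgroup.normalizer (Subgroup.zpowers x : Set G)) (hcp : c ^ p = 1) :
    c ∈ Subgroup.zpowers x := by
  obtain ⟨S, hS⟩ := isSylow_zpowers hsq hx
  have hP : IsPGroup p (Subgroup.zpowers c) := by
    rintro ⟨z, n, rfl⟩
    exact ⟨1, Subtype.ext (by rw [pow_one, Subgroup.coe_pow, Subgroup.coe_one, ← zpow_natCast, ← zpow_mul,
      mul_comm, zpow_mul, zpow_natCast, hcp, one_zpow])⟩
  have h := hP.inf_normalizer_sylow S
  have hc' : c ∈ Subgroup.normalizer ((S : Subgroup G) : Set G) := by rw [hS]; exact hc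
  have h2 : c ∈ Subgroup.zpowers c ⊓ (S : Subgroup G) := h ▸ ⟨Subgroup.mem_zpowers c, hc'⟩
  exact hS ▸ h2.2

theorem mem_normalizer_of_conj_mem (hsq : ¬ p ^ 2 ∣ Nat.card G) (hx : orderOf x = p) {g : G}
    (h : g⁻¹ * x * g ∈ Subgroup.normalizer (Subgroup.zpowers x : Set G)) :
    g ∈ Subgroup.normalizer (Subgroup.zpowers x : Set G) := by
  have ho : orderOf (g⁻¹ * x * g) = p := by
    rw [show g⁻¹ * x * g = MulAut.conj g⁻¹ x by simp, MulEquiv.orderOf_eq, hx]
  have hm := mem_zpowers_of_normalizes hsq hx h (ho ▸ pow_orderOf_eq_one _)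
  have he : Subgroup.zpowers (g⁻¹ * x * g) = Subgroup.zpowers x :=
    Subgroup.eq_of_le_of_card_ge (Subgroup.zpowers_le.2 hm) (by rw [Nat.card_zpowers, Nat.card_zpowers, ho, hx])
  intro n
  have hconj : ∀ i : ℤ, g * (g⁻¹ * x * g) ^ i * g⁻¹ = x ^ i := fun i => by
    rw [← conj_zpow]
    congr 1
    group
  constructor
  · intro hn
    rw [SetLike.mem_coe, ← he] at hn
    obtain ⟨i, rfl⟩ := hn
    exact ⟨i, (hconj i).symm⟩
  · rintro ⟨i, hi⟩
    rw [SetLike.mem_coe, ← he]
    refine ⟨i, ?_⟩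
    have h1 := hconj i
    rw [show x ^ i = g * n * g⁻¹ from hi] at h1
    exact mul_left_cancel (mul_right_cancel h1)

theorem exists_exponent (hx : orderOf x = p) {g : G}
    (hg : g ∈ Subgroup.normalizer (Subgroup.zpowers x : Set G)) :
    ∃ b : ZMod p, b ≠ 0 ∧ g * x = x ^ b.val * g := by
  classical
  have hm : g * x * g⁻¹ ∈ Subgroup.zpowers x := (hg x).1 (Subgroup.mem_zpowers x)
  obtain ⟨i, hi⟩ := (isOfFinOrder_of_finite x).mem_zpowers_iff_mem_range_orderOf.1 hm |> Finset.mem_image.1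
  rw [hx] at hi
  refine ⟨(i : ZMod p), ?_, ?_⟩
  · intro h
    rw [ZMod.natCast_eq_zero_iff] at h
    have h0 : i = 0 := Nat.eq_zero_of_dvd_of_lt h (Finset.mem_range.1 hi.1)
    rw [h0, pow_zero, eq_comm, conj_eq_one_iff] at hi
    rw [hi.2, orderOf_one] at hx
    exact (Fact.out : p.Prime).ne_one hx.symm
  · rw [ZMod.val_natCast, Nat.mod_eq_of_lt (Finset.mem_range.1 hi.1), hi.2]
    group

/-- A complement of the Sylow subgroup in its normalizer. -/
theorem exists_complement_normalizer (hsq : ¬ p ^ 2 ∣ Nat.card G) (hx : orderOf x = p) :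
    ∃ H : Subgroup G, ¬ p ∣ Nat.card H ∧ H ≤ Subgroup.normalizer (Subgroup.zpowers x : Set G) ∧
      ∀ n ∈ Subgroup.normalizer (Subgroup.zpowers x : Set G), n ∈ Subgroup.zpowers x ⊔ H := by
  set N := Subgroup.normalizer (Subgroup.zpowers x : Set G) with hN
  set P := (Subgroup.zpowers x).subgroupOf N
  have hle : Subgroup.zpowers x ≤ N := Subgroup.le_normalizer
  haveI : P.Normal := Subgroup.normal_in_normalizer
  have hcard : Nat.card P = p := by
    rw [Nat.card_congr (Subgroup.subgroupOfEquivOfLe hle).toEquiv, Nat.card_zpowers, hx]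
  have hidx : ¬ p ∣ P.index := fun h => hsq (by
    rw [pow_two]
    exact ((Nat.mul_dvd_mul (hcard.symm.dvd : p ∣ Nat.card P) h).trans
      (Subgroup.card_mul_index P).dvd).trans (Subgroup.card_subgroup_dvd_card N))
  obtain ⟨Q, hQ⟩ := Subgroup.exists_right_complement'_of_coprime (N := P) (by
    rw [hcard]; exact (Fact.out : p.Prime).coprime_iff_not_dvd.2 hidx)
  refine ⟨Q.map N.subtype, ?_, Subgroup.map_subtype_le Q, fun n hn => ?_⟩
  · rw [Nat.card_congr (Q.equivMapOfInjective N.subtype N.subtype_injective).symm.toEquiv,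
      ← hQ.symm.index_eq_card]
    exact hidx
  · have h : (⟨n, hn⟩ : N) ∈ P ⊔ Q := hQ.sup_eq_top ▸ Subgroup.mem_top _
    have h' := Subgroup.mem_map_of_mem N.subtype h
    rw [Subgroup.map_sup, Subgroup.subgroupOf_map_subtype, inf_eq_left.2 hle] at h'
    exact h'

end CfsgLib.Char.HalfDegree
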