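import Cfsg.Agent.Lib.Classical.Dickson.Structure

/-!
# Isometries of a three-dimensional space and Möbius transformations
-/

set_option autoImplicit false
set_option maxHeartbeats 800000

namespace CfsgLib.Char.HalfDegree

open Matrix CfsgLib.Classical.Dickson

variable {k : Type*} [Field k]

/-- The matrix of the action on binary quadratic forms, normalized by the determinant. -/
def adMat (A : Matrix (Fin 2) (Fin 2) k) : Matrix (Fin 3) (Fin 3) k :=
  (A.det)⁻¹ • !![A 0 0 ^ 2, 2 * A 0 0 * A 0 1, A 0 1 ^ 2;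
    A 0 0 * A 1 0, A 0 0 * A 1 1 + A 0 1 * A 1 0, A 0 1 * A 1 1;
    A 1 0 ^ 2, 2 * A 1 0 * A 1 1, A 1 1 ^ 2]

theorem adMat_mul (A B : Matrix (Fin 2) (Fin 2) k) : adMat (A * B) = adMat A * adMat B := by
  rw [adMat, adMat, adMat, det_mul, Matrix.smul_mul, Matrix.mul_smul, smul_smul, mul_inv]
  congr 1
  ext i j
  fin_cases i <;> fin_cases j <;>
    simp [Matrix.mul_apply, Fin.sum_univ_succ] <;> ring

/-- The action of `GL₂` on binary quadratic forms. -/
noncomputable def adGL : GL (Fin 2) k →* Module.End k (Fin 3 → k) where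
  toFun A := Matrix.toLin' (adMat (A : Matrix (Fin 2) (Fin 2) k))
  map_one' := by
    have : adMat ((1 : GL (Fin 2) k) : Matrix (Fin 2) (Fin 2) k) = 1 := by
      ext i j
      fin_cases i <;> fin_cases j <;> simp [adMat]
    rw [this, Matrix.toLin'_one]
    rfl
  map_mul' A B := by rw [Units.val_mul, adMat_mul, Matrix.toLin'_mul]; rfl

/-- The standard form. -/
def stdForm (a b : Fin 3 → k) : k := a 1 * b 1 - (a 0 * b 2 + a 2 * b 0) / 2

theorem stdForm_adGL (h2 : (2 : k) ≠ 0) (A : GL (Fin 2) k) (a b : Fin 3 → k) :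
    stdForm (adGL A a) (adGL A b) = stdForm a b := by
  obtain ⟨M, hM⟩ : ∃ M, (A : Matrix (Fin 2) (Fin 2) k) = M := ⟨_, rfl⟩
  have hd : M.det ≠ 0 := hM ▸ (Matrix.GeneralLinearGroup.det A).ne_zero
  rw [Matrix.det_fin_two] at hd
  simp [stdForm, adGL, hM, adMat, Matrix.toLin'_apply, Matrix.mulVec, dotProduct, Fin.sum_univ_succ,
    Matrix.det_fin_two]
  field_simp
  ring

theorem mk_GL (M : Matrix (Fin 2) (Fin 2) k) (h : M.det ≠ 0) :
    ∃ A : GL (Fin 2) k, (A : Matrix (Fin 2) (Fin 2) k) = M :=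
  ⟨Matrix.GeneralLinearGroup.mkOfDetNeZero M h, rfl⟩

/-- An action equal to plus or minus the identity comes from a scalar, with the plus sign. -/
theorem adGL_eq_sign (h2 : (2 : k) ≠ 0) {A : GL (Fin 2) k} (h : adGL A = 1 ∨ adGL A = -1) :
    adGL A = 1 ∧ (ProjGenLinGroup.mk A : Mob k) = 1 := by
  obtain ⟨s, hs, hsA⟩ : ∃ s : k, (s = 1 ∨ s = -1) ∧ ∀ v, adGL A v = s • v := by
    rcases h with h | h
    · exact ⟨1, Or.inl rfl, fun v => by simp [h]⟩
    · exact ⟨-1, Or.inr rfl, fun v => by simp [h]⟩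
  obtain ⟨M, hM⟩ : ∃ M, (A : Matrix (Fin 2) (Fin 2) k) = M := ⟨_, rfl⟩
  have hd : M.det ≠ 0 := hM ▸ (Matrix.GeneralLinearGroup.det A).ne_zero
  have e0 := congrFun (hsA ![1, 0, 0])
  have e1 := congrFun (hsA ![0, 1, 0])
  have e2 := congrFun (hsA ![0, 0, 1])
  have h20 := e0 2
  have h02 := e2 0
  have h00 := e0 0
  have h11 := e1 1
  have h22 := e2 2
  simp [adGL, hM, adMat, Matrix.toLin'_apply, Matrix.mulVec, dotProduct, Fin.sum_univ_succ] at h20 h02 h00 h11 h22
  have hc : M 1 0 = 0 := by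
    rcases h20 with h | h
    · exact absurd h hd
    · exact h
  have hb : M 0 1 = 0 := by
    rcases h02 with h | h
    · exact absurd h hd
    · exact h
  have hdet : M.det = M 0 0 * M 1 1 := by rw [Matrix.det_fin_two, hc, mul_zero, sub_zero]
  rw [hb, hc, mul_zero, add_zero, hdet, inv_mul_cancel₀ (hdet ▸ hd)] at h11
  subst h11
  have had : M 0 0 = M 1 1 := by
    rw [hdet] at h00
    have hne := hdet ▸ hd
    have n0 := left_ne_zero_of_mul hne
    have n1 := right_ne_zero_of_mul hne
    field_simp at h00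
    first
      | exact h00
      | exact h00.symm
      | exact mul_left_cancel₀ n0 (by linear_combination h00)
  refine ⟨LinearMap.ext fun v => by rw [hsA, one_smul]; rfl, ?_⟩
  rw [ProjGenLinGroup.mk_eq_one, Matrix.GeneralLinearGroup.center_eq_range_scalar]
  refine ⟨Units.mk0 (M 0 0) (fun h0 => hd (by rw [hdet, h0, zero_mul])), Units.ext ?_⟩
  ext i j
  fin_cases i <;> fin_cases j <;> simp [hM, hb, hc, had]

theorem endMulNeg (a b : Module.End k (Fin 3 → k)) : a * -b = -(a * b) :=
  LinearMap.ext fun v => by simp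

theorem endNegMul (a b : Module.End k (Fin 3 → k)) : -a * b = -(a * b) :=
  LinearMap.ext fun v => by simp

theorem endNegOne : (-1 : Module.End k (Fin 3 → k)) = (-1 : k) • (1 : Module.End k (Fin 3 → k)) :=
  LinearMap.ext fun v => by simp

variable [IsAlgClosed k]

/-- An isometry of the standard form is, up to sign, the action of a matrix. -/
theorem exists_adGL (h2 : (2 : k) ≠ 0) (g : Module.End k (Fin 3 → k))
    (hg : ∀ a b, stdForm (g a) (g b) = stdForm a b) :
    ∃ A : GL (Fin 2) k, g = adGL A ∨ g = -adGL A := by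
  have hinv : ∀ (A : GL (Fin 2) k) v, adGL A (adGL A⁻¹ v) = v := fun A v => by
    rw [← Module.End.mul_apply, ← map_mul, mul_inv_cancel, map_one, Module.End.one_apply]
  have hinv' : ∀ (A : GL (Fin 2) k) v, adGL A⁻¹ (adGL A v) = v := fun A v => by
    rw [← Module.End.mul_apply, ← map_mul, inv_mul_cancel, map_one, Module.End.one_apply]
  have hginj : ∀ v, g v = 0 → v = 0 := fun v hv => by
    have h0 := hg v ![1, 0, 0]
    have h1 := hg v ![0, 1, 0]
    have h3 := hg v ![0, 0, 1]
    simp [hv, stdForm, h2] at h0 h1 h3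
    ext i; fin_cases i <;> simp_all
  set e : Fin 3 → k := ![1, 0, 0] with he
  set f : Fin 3 → k := ![0, 0, 1] with hf
  -- move the image of the first isotropic vector
  obtain ⟨A1, hA1⟩ : ∃ A : GL (Fin 2) k, adGL A e = g e := by
    have hiso : g e 1 ^ 2 = g e 0 * g e 2 := by
      have h := hg e e
      simp [stdForm, he] at h
      field_simp at h
      have h' : 2 * (g e 1 ^ 2 - g e 0 * g e 2) = 0 := by rw [he]; linear_combination h
      exact sub_eq_zero.1 ((mul_eq_zero.1 h').resolve_left h2)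
    have happ : ∀ (M : Matrix (Fin 2) (Fin 2) k) (A : GL (Fin 2) k), (A : Matrix (Fin 2) (Fin 2) k) = M → M.det = 1 →
        adGL A e = ![M 0 0 ^ 2, M 0 0 * M 1 0, M 1 0 ^ 2] := fun M A hA hd => by
      ext i; fin_cases i <;> simp [adGL, hA, adMat, hd, he, Matrix.toLin'_apply, Matrix.mulVec, dotProduct, Fin.sum_univ_succ]
    by_cases ha : g e 0 = 0
    · have hb : g e 1 = 0 := by
        rw [ha, zero_mul] at hiso
        exact pow_eq_zero_iff two_ne_zero |>.1 hiso
      have hc : g e 2 ≠ 0 := fun hc => by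
        have : e = 0 := hginj e (by ext i; fin_cases i <;> simp [ha, hb, hc])
        simpa [he] using congrFun this 0
      obtain ⟨γ, hγ⟩ := IsAlgClosed.exists_pow_nat_eq (g e 2) (n := 2) two_pos
      have hγ0 : γ ≠ 0 := fun h => hc (by rw [← hγ, h]; ring)
      have hd : (!![0, -γ⁻¹; γ, 0] : Matrix (Fin 2) (Fin 2) k).det = 1 := by
        simp [Matrix.det_fin_two_of, hγ0]
      obtain ⟨A, hA⟩ := mk_GL _ (by rw [hd]; exact one_ne_zero)
      refine ⟨A, (happ _ A hA hd).trans ?_⟩
      ext i; fin_cases i <;> simp [ha, hb, hγ]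
    · obtain ⟨α, hα⟩ := IsAlgClosed.exists_pow_nat_eq (g e 0) (n := 2) two_pos
      have hα0 : α ≠ 0 := fun h => ha (by rw [← hα, h]; ring)
      have hd : (!![α, 0; g e 1 / α, α⁻¹] : Matrix (Fin 2) (Fin 2) k).det = 1 := by
        simp [Matrix.det_fin_two_of, hα0]
      obtain ⟨A, hA⟩ := mk_GL _ (by rw [hd]; exact one_ne_zero)
      refine ⟨A, (happ _ A hA hd).trans ?_⟩
      ext i; fin_cases i <;> simp
      · exact hα
      · field_simp
      · field_simp
        rw [hiso, hα]
  have hg1 : ∀ a b, stdForm (adGL A1⁻¹ (g a)) (adGL A1⁻¹ (g b)) = stdForm a b := fun a b => by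
    rw [stdForm_adGL h2, hg]
  have he1 : adGL A1⁻¹ (g e) = e := by rw [← hA1, hinv']
  -- move the image of the second isotropic vector
  set f1 := adGL A1⁻¹ (g f) with hf1
  have hf2 : f1 2 = 1 := by
    have h := hg1 e f
    rw [he1, ← hf1] at h
    simp [stdForm, he, hf] at h
    field_simp at h
    linear_combination h
  have hf0 : f1 0 = f1 1 ^ 2 := by
    have h := hg1 f f
    rw [← hf1] at h
    simp [stdForm, hf, hf2] at h
    field_simp at h
    have h' : 2 * (f1 1 ^ 2 - f1 0) = 0 := by linear_combination h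
    exact (sub_eq_zero.1 ((mul_eq_zero.1 h').resolve_left h2)).symm
  obtain ⟨A2, hA2⟩ := mk_GL (!![1, f1 1; 0, 1] : Matrix (Fin 2) (Fin 2) k) (by simp [Matrix.det_fin_two_of])
  have hA2e : adGL A2 e = e := by
    ext i; fin_cases i <;> simp [adGL, hA2, adMat, he, Matrix.toLin'_apply, Matrix.mulVec, dotProduct, Fin.sum_univ_succ]
  have hA2f : adGL A2 f = f1 := by
    ext i; fin_cases i <;> simp [adGL, hA2, adMat, hf, hf0, hf2, Matrix.toLin'_apply, Matrix.mulVec, dotProduct, Fin.sum_univ_succ]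
  have hg2 : ∀ a b, stdForm (adGL A2⁻¹ (adGL A1⁻¹ (g a))) (adGL A2⁻¹ (adGL A1⁻¹ (g b))) = stdForm a b :=
    fun a b => by rw [stdForm_adGL h2, hg1]
  have he2 : adGL A2⁻¹ (adGL A1⁻¹ (g e)) = e := by rw [he1]; conv_lhs => rw [← hA2e, hinv']
  have hf2' : adGL A2⁻¹ (adGL A1⁻¹ (g f)) = f := by rw [← hf1, ← hA2f, hinv']
  set h : Fin 3 → k := ![0, 1, 0] with hh
  set g2 : Module.End k (Fin 3 → k) := adGL A2⁻¹ * (adGL A1⁻¹ * g) with hg2'
  have hh0 : g2 h 0 = 0 := by
    have e' := hg2 h f
    rw [hf2'] at e'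
    simp [stdForm, hf, hh] at e'
    simpa [hg2', h2] using e'
  have hh2 : g2 h 2 = 0 := by
    have e' := hg2 h e
    rw [he2] at e'
    simp [stdForm, he, hh] at e'
    simpa [hg2', h2] using e'
  have hh1 : g2 h 1 = 1 ∨ g2 h 1 = -1 := by
    have e' : stdForm (g2 h) (g2 h) = stdForm h h := hg2 h h
    simp [stdForm, hh0, hh2, hh] at e'
    refine mul_self_eq_one_iff.1 ?_
    have a0 : g2 ![0, 1, 0] 0 = 0 := hh0
    rw [a0, zero_mul, mul_zero, add_zero, zero_div, sub_zero] at e'
    exact e'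
  have hgA : g = adGL (A1 * A2) * g2 := by
    rw [hg2', ← mul_assoc, ← mul_assoc, ← map_mul, ← map_mul, show A1 * A2 * A2⁻¹ * A1⁻¹ = 1 by group,
      map_one, one_mul]
  have hext : ∀ (φ ψ : Module.End k (Fin 3 → k)), φ e = ψ e → φ h = ψ h → φ f = ψ f → φ = ψ := by
    intro φ ψ h1 h3 h4
    refine LinearMap.ext fun v => ?_
    have hv : v = v 0 • e + v 1 • h + v 2 • f := by ext i; fin_cases i <;> simp [he, hh, hf]
    rw [hv]; simp [h1, h3, h4]
  rcases hh1 with hs | hs
  · refine ⟨A1 * A2, Or.inl ?_⟩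
    rw [hgA, hext g2 1 he2 ?_ hf2', mul_one]
    ext i; fin_cases i <;> simp [hh0, hh2, hs, hh]
    all_goals first | exact hh0 | exact hh2 | exact hs
  · obtain ⟨D, hD⟩ := mk_GL (!![1, 0; 0, -1] : Matrix (Fin 2) (Fin 2) k) (by simp [Matrix.det_fin_two_of])
    refine ⟨A1 * A2 * D, Or.inr ?_⟩
    rw [map_mul _ _ D, hgA, hext g2 (-adGL D) ?_ ?_ ?_, endMulNeg]
    · rw [show g2 e = e from he2]
      ext i; fin_cases i <;> simp [adGL, hD, adMat, he, Matrix.toLin'_apply, Matrix.mulVec, dotProduct, Fin.sum_univ_succ]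
    · ext i; fin_cases i <;> simp [adGL, hD, adMat, hh, Matrix.toLin'_apply, Matrix.mulVec, dotProduct, Fin.sum_univ_succ]
      all_goals first | exact hh0 | exact hh2 | exact hs
    · rw [show g2 f = f from hf2']
      ext i; fin_cases i <;> simp [adGL, hD, adMat, hf, Matrix.toLin'_apply, Matrix.mulVec, dotProduct, Fin.sum_univ_succ]

/-- An orthogonal representation of dimension three gives a map to the Möbius group whose kernel is
the preimage of plus or minus the identity. -/
theorem exists_mob_hom {G : Type*} [Group G] (h2 : (2 : k) ≠ 0) (σ : G →* Module.End k (Fin 3 → k))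
    (B : LinearMap.BilinForm k (Fin 3 → k)) (hsym : ∀ a b, B a b = B b a)
    (hnd : ∀ a, (∀ b, B a b = 0) → a = 0) (hinv : ∀ g a b, B (σ g a) (σ g b) = B a b)
    {v : Fin 3 → k} (hv0 : v ≠ 0) (hvv : B v v = 0) :
    ∃ φ : G →* Mob k, ∀ g, φ g = 1 ↔ (σ g = 1 ∨ σ g = -1) := by
  classical
  -- a basis in which the form is standard
  obtain ⟨z, hz1, hzz⟩ : ∃ z, B v z = 1 ∧ B z z = 0 := by
    obtain ⟨b, hb⟩ : ∃ b, B v b ≠ 0 := by
      by_contra hcon; push Not at hcon; exact hv0 (hnd v hcon)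
    set z := (B v b)⁻¹ • b with hz
    have h1 : B v z = 1 := by simp [hz, hb]
    refine ⟨z - (B z z / 2) • v, ?_, ?_⟩
    · simp [map_sub, map_smul, h1, hvv]
    · simp only [map_sub, map_smul, LinearMap.sub_apply, LinearMap.smul_apply, smul_eq_mul, hsym z v, h1, hvv]
      field_simp; ring
  obtain ⟨h, hhv, hhz, hhh⟩ : ∃ h, B v h = 0 ∧ B z h = 0 ∧ B h h = 1 := by
    let T : (Fin 3 → k) →ₗ[k] k × k := (B v).prod (B z)
    obtain ⟨h, hhT, hh0⟩ : ∃ h ∈ LinearMap.ker T, h ≠ 0 := by
      refine Submodule.exists_mem_ne_zero_of_ne_bot fun hbot => ?_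
      have := LinearMap.finrank_le_finrank_of_injective (LinearMap.ker_eq_bot.1 hbot)
      rw [Module.finrank_fin_fun, Module.finrank_prod, Module.finrank_self] at this
      omega
    have hv' : B v h = 0 := congrArg Prod.fst (LinearMap.mem_ker.1 hhT)
    have hz' : B z h = 0 := congrArg Prod.snd (LinearMap.mem_ker.1 hhT)
    have hB : B h h ≠ 0 := by
      intro h0
      let J : (Fin 3 → k) →ₗ[k] (Fin 3 → k) :=
        (LinearMap.proj 0).smulRight v + (LinearMap.proj 1).smulRight z + (LinearMap.proj 2).smulRight h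
      have hJ : Function.Injective J := by
        refine (injective_iff_map_eq_zero J).2 fun a ha => ?_
        have ha' : a 0 • v + a 1 • z + a 2 • h = 0 := ha
        have a1 := congrArg (B v) ha'
        have a0 := congrArg (B z) ha'
        simp [hvv, hzz, hz1, hv', hz', hsym z v] at a1 a0
        rw [a0, a1, zero_smul, zero_smul, zero_add, zero_add] at ha'
        ext i; fin_cases i
        exacts [a0, a1, (smul_eq_zero.1 ha').resolve_right hh0]
      refine hh0 (hnd h fun b => ?_)
      obtain ⟨a, rfl⟩ := LinearMap.injective_iff_surjective.1 hJ b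
      simp [J, hsym h v, hsym h z, hv', hz', h0]
    obtain ⟨r, hr⟩ := IsAlgClosed.exists_pow_nat_eq (B h h) (n := 2) two_pos
    have hr0 : r ≠ 0 := fun h0 => hB (by rw [← hr, h0]; ring)
    refine ⟨r⁻¹ • h, by simp [hv'], by simp [hz'], ?_⟩
    simp only [map_smul, LinearMap.smul_apply, smul_eq_mul, ← hr]
    field_simp
  let P : (Fin 3 → k) →ₗ[k] (Fin 3 → k) :=
    (LinearMap.proj 0).smulRight ((-(2 : k)⁻¹) • v) + (LinearMap.proj 1).smulRight h +
      (LinearMap.proj 2).smulRight z
  have hP : ∀ a b, B (P a) (P b) = stdForm a b := fun a b => by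
    simp [P, stdForm, hvv, hzz, hhh, hhv, hhz, hz1, hsym h v, hsym h z, hsym z v]
    field_simp; ring
  have hPinj : Function.Injective P := (injective_iff_map_eq_zero P).2 fun a ha => by
    have e : ∀ b, stdForm a b = 0 := fun b => by rw [← hP, ha, map_zero, LinearMap.zero_apply]
    have e0 := e ![1, 0, 0]
    have e1 := e ![0, 1, 0]
    have e2 := e ![0, 0, 1]
    simp [stdForm, h2] at e0 e1 e2
    ext i; fin_cases i <;> assumption
  let Pe := LinearEquiv.ofBijective P ⟨hPinj, LinearMap.injective_iff_surjective.1 hPinj⟩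
  let σ' : G → Module.End k (Fin 3 → k) := fun g => Pe.symm.conj (σ g)
  have hσ' : ∀ g a, σ' g a = Pe.symm (σ g (P a)) := fun g a => rfl
  have hσ'mul : ∀ g g', σ' (g * g') = σ' g * σ' g' := fun g g' => LinearMap.ext fun a => by
    rw [Module.End.mul_apply, hσ', hσ', hσ', map_mul, Module.End.mul_apply, show P (Pe.symm (σ g' (P a))) = σ g' (P a) from Pe.apply_symm_apply _]
  have hex : ∀ g, ∃ A : GL (Fin 2) k, σ' g = adGL A ∨ σ' g = -adGL A := fun g => by
    refine exists_adGL h2 _ fun a b => ?_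
    rw [hσ', hσ', ← hP, show ∀ w, P (Pe.symm w) = w from fun w => Pe.apply_symm_apply w,
      show ∀ w, P (Pe.symm w) = w from fun w => Pe.apply_symm_apply w, hinv, hP]
  choose A hA using hex
  have key : ∀ g (C : GL (Fin 2) k), (σ' g = adGL C ∨ σ' g = -adGL C) →
      (ProjGenLinGroup.mk (A g) : Mob k) = ProjGenLinGroup.mk C := by
    intro g C hC
    have hcancel : adGL C⁻¹ * adGL C = 1 := by rw [← map_mul, inv_mul_cancel, map_one]
    have h1 : adGL (C⁻¹ * A g) = 1 ∨ adGL (C⁻¹ * A g) = -1 := by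
      rw [map_mul]
      rcases hA g with e | e <;> rcases hC with e' | e'
      · left; rw [← e, e', hcancel]
      · right; rw [← e, e', endMulNeg, hcancel]
      · right; rw [show adGL (A g) = -σ' g by rw [e, neg_neg], e', endMulNeg, hcancel]
      · left; rw [show adGL (A g) = -σ' g by rw [e, neg_neg], e', neg_neg, hcancel]
    have h3 := (adGL_eq_sign h2 h1).2
    rw [map_mul, map_inv, inv_mul_eq_one] at h3
    exact h3.symm
  let φ : G →* Mob k := MonoidHom.mk' (fun g => ProjGenLinGroup.mk (A g)) fun g g' => by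
    show ProjGenLinGroup.mk (A (g * g')) = ProjGenLinGroup.mk (A g) * ProjGenLinGroup.mk (A g')
    rw [← map_mul]
    refine key _ _ ?_
    rw [hσ'mul, map_mul]
    rcases hA g with e | e <;> rcases hA g' with e' | e' <;> rw [e, e']
    · left; rfl
    · right; rw [endMulNeg]
    · right; rw [endNegMul]
    · left; rw [endNegMul, endMulNeg, neg_neg]
  refine ⟨φ, fun g => ⟨fun hg => ?_, fun hg => ?_⟩⟩
  · have hc : adGL (A g) = 1 := by
      have hmem : A g ∈ Subgroup.center (GL (Fin 2) k) := ProjGenLinGroup.mk_eq_one.1 hg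
      rw [Matrix.GeneralLinearGroup.center_eq_range_scalar] at hmem
      obtain ⟨u, hu⟩ := hmem
      rw [← hu]
      refine LinearMap.ext fun a => ?_
      ext i; fin_cases i <;>
        simp [adGL, adMat, Matrix.toLin'_apply, Matrix.mulVec, dotProduct, Fin.sum_univ_succ, Matrix.det_fin_two] <;>
        field_simp
    have back : ∀ s : k, σ' g = s • (1 : Module.End k (Fin 3 → k)) → σ g = s • (1 : Module.End k (Fin 3 → k)) := by
      intro s hs
      refine LinearMap.ext fun a => ?_
      have := congrArg (fun φ : Module.End k (Fin 3 → k) => Pe (φ (Pe.symm a))) hs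
      have h' : Pe (σ' g (Pe.symm a)) = σ g a := by
        rw [hσ', show P (Pe.symm a) = a from Pe.apply_symm_apply a, Pe.apply_symm_apply]
      rw [h'] at this
      rw [this]; simp
    rcases hA g with e | e <;> rw [hc] at e
    · left; simpa using back 1 (by rw [e, one_smul])
    · right; rw [endNegOne]; exact back (-1) (by rw [e, endNegOne])
  · show (ProjGenLinGroup.mk (A g) : Mob k) = 1
    rw [key g 1, map_one]
    rw [map_one]
    rcases hg with hg | hg
    · left; exact LinearMap.ext fun a => by rw [hσ', hg]; exact Pe.symm_apply_apply a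
    · right; exact LinearMap.ext fun a => by rw [hσ', hg]; simp only [LinearMap.neg_apply, Module.End.one_apply, map_neg]; exact congrArg Neg.neg (Pe.symm_apply_apply a)

end CfsgLib.Char.HalfDegree
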