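import Mathlib

/-!
# Eigenvalues of an element of order `p` conjugate to many of its powers
-/

set_option autoImplicit false

namespace CfsgLib.Char.HalfDegree

variable {G : Type*} [Group G] {V : Type*} [AddCommGroup V] [Module ℂ V] [FiniteDimensional ℂ V]
  (ρ : Representation ℂ G V) {p : ℕ} [Fact p.Prime] {x : G}

theorem exists_eigen (hxp : x ^ p = 1) (W : Submodule ℂ V) (hW : ∀ v ∈ W, ρ x v ∈ W) {v : V} (hv : v ∈ W)
    (hne : ρ x v ≠ v) : ∃ (ζ : ℂ) (w : V), w ∈ W ∧ w ≠ 0 ∧ ρ x w = ζ • w ∧ IsPrimitiveRoot ζ p := by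
  set T := ρ x with hT
  set S : Module.End ℂ V := ∑ i ∈ Finset.range p, T ^ i with hS
  let U : Submodule ℂ V := W ⊓ LinearMap.ker S
  have hTU : ∀ u ∈ U, T u ∈ U := fun u hu => ⟨hW u hu.1, by
    have hc : Commute S T := Commute.sum_left _ _ _ fun i _ => (Commute.refl T).pow_left i
    show S (T u) = 0
    rw [← Module.End.mul_apply, hc.eq, Module.End.mul_apply, show S u = 0 from hu.2, map_zero]⟩
  have hTp : T ^ p = 1 := by rw [hT, ← map_pow, hxp, map_one]
  have hSU : T v - v ∈ U := ⟨W.sub_mem (hW v hv) hv, by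
    have := congrArg (fun f : Module.End ℂ V => f v) (geom_sum_mul T p)
    simpa [← hS, hTp] using this⟩
  haveI : Nontrivial U := ⟨⟨⟨_, hSU⟩, 0, fun h => hne (sub_eq_zero.1 (congrArg Subtype.val h))⟩⟩
  obtain ⟨ζ, hζ⟩ := Module.End.exists_eigenvalue (LinearMap.restrict T hTU : Module.End ℂ U)
  obtain ⟨w, hw⟩ := hζ.exists_hasEigenvector
  have hw1 : T (w : V) = ζ • (w : V) := congrArg Subtype.val hw.apply_eq_smul
  have hw0 : (w : V) ≠ 0 := fun h => hw.2 (Subtype.ext h)
  have hpow : ∀ i, (T ^ i) (w : V) = ζ ^ i • (w : V) := fun i => by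
    induction i with
    | zero => simp
    | succ i ih => rw [pow_succ', Module.End.mul_apply, ih, map_smul, hw1, smul_smul, pow_succ]
  have hsum : (∑ i ∈ Finset.range p, ζ ^ i) = 0 := by
    have h0 : S (w : V) = 0 := w.2.2
    rw [hS, LinearMap.sum_apply, Finset.sum_congr rfl fun i _ => hpow i, ← Finset.sum_smul] at h0
    exact (smul_eq_zero.1 h0).resolve_right hw0
  have hζp : ζ ^ p = 1 := by
    have := geom_sum_mul ζ p
    rw [hsum, zero_mul] at this
    exact sub_eq_zero.1 this.symm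
  have hζ1 : ζ ≠ 1 := fun h => by
    rw [h] at hsum
    simp at hsum
    exact (Fact.out : p.Prime).ne_zero hsum
  exact ⟨ζ, w, w.2.1, hw0, hw1, IsPrimitiveRoot.iff_orderOf.2 (orderOf_eq_prime hζp hζ1)⟩

theorem le_finrank_of_orbit (hxp : x ^ p = 1) (W : Submodule ℂ V) (hW : ∀ v ∈ W, ρ x v ∈ W) {v : V}
    (hv : v ∈ W) (hne : ρ x v ≠ v) (Q : Finset (ZMod p))
    (hQ : ∀ a ∈ Q, a ≠ 0 ∧ ∃ n : G, n * x = x ^ a.val * n ∧ ∀ u ∈ W, ρ n u ∈ W) :
    Q.card ≤ Module.finrank ℂ W ∧
      ((∃ u ∈ W, u ≠ 0 ∧ ρ x u = u) → Q.card + 1 ≤ Module.finrank ℂ W) := by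
  classical
  obtain ⟨ζ, w, hwW, hw0, hw, hζ⟩ := exists_eigen ρ hxp W hW hv hne
  have hp : p.Prime := Fact.out
  have hf : ∀ a : Q, ∃ u : W, Module.End.HasEigenvector (ρ x : Module.End ℂ V) (ζ ^ ((a : ZMod p)⁻¹).val) (u : V) := by
    intro a
    obtain ⟨ha, n, hn, hnW⟩ := hQ a a.2
    refine ⟨⟨ρ n w, hnW w hwW⟩, Module.End.mem_eigenspace_iff.2 ?_, ?_⟩
    · have hpow : ∀ i, ρ (x ^ i) w = ζ ^ i • w := fun i => by
        induction i with
        | zero => simp
        | succ i ih => rw [pow_succ', map_mul, Module.End.mul_apply, ih, map_smul, hw, smul_smul, pow_succ]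
      have hsc : n * x ^ ((a : ZMod p)⁻¹).val = x * n := by
        have := (show SemiconjBy n x (x ^ (a : ZMod p).val) from hn).pow_right ((a : ZMod p)⁻¹).val
        rw [this.eq, ← pow_mul, pow_eq_pow_mod _ hxp, ← ZMod.val_mul, mul_inv_cancel₀ ha, ZMod.val_one, pow_one]
      show ρ x (ρ n w) = _
      rw [← Module.End.mul_apply, ← map_mul, ← hsc, map_mul, Module.End.mul_apply, hpow, map_smul]
    · intro h
      have h' : ρ n⁻¹ (ρ n w) = 0 := by rw [show ρ n w = 0 from h, map_zero]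
      rw [← Module.End.mul_apply, ← map_mul, inv_mul_cancel, map_one, Module.End.one_apply] at h'
      exact hw0 h'
  choose u hu using hf
  have hinj : ∀ a b : Q, ζ ^ ((a : ZMod p)⁻¹).val = ζ ^ ((b : ZMod p)⁻¹).val → a = b := fun a b h =>
    Subtype.ext (inv_injective (ZMod.val_injective p (hζ.pow_inj (ZMod.val_lt _) (ZMod.val_lt _) h)))
  refine ⟨?_, ?_⟩
  · have h := (Module.End.eigenvectors_linearIndependent' (ρ x : Module.End ℂ V) _ hinj
      (fun a => ((u a : W) : V)) hu)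
    have h' : LinearIndependent ℂ u := LinearIndependent.of_comp W.subtype h
    simpa using h'.fintype_card_le_finrank
  · rintro ⟨z, hzW, hz0, hz⟩
    let μ : Option Q → ℂ := fun o => o.elim 1 fun a => ζ ^ ((a : ZMod p)⁻¹).val
    let f : Option Q → W := fun o => o.elim ⟨z, hzW⟩ u
    have hne1 : ∀ a : Q, ζ ^ ((a : ZMod p)⁻¹).val ≠ 1 := fun a h => by
      refine (hQ a a.2).1 (inv_eq_zero.1 (ZMod.val_injective p ?_))
      rw [ZMod.val_zero]
      exact hζ.pow_inj (ZMod.val_lt _) hp.pos (by rw [h, pow_zero])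
    have hμ : Function.Injective μ := by
      rintro (_ | a) (_ | b) h
      · rfl
      · exact absurd h.symm (hne1 b)
      · exact absurd h (hne1 a)
      · exact congrArg some (hinj a b h)
    have h := (Module.End.eigenvectors_linearIndependent' (ρ x : Module.End ℂ V) μ hμ
      (fun o => ((f o : W) : V)) (by
        rintro (_ | a)
        · exact ⟨Module.End.mem_eigenspace_iff.2 (by simp [μ, f, hz]), hz0⟩
        · exact hu a))
    have h' : LinearIndependent ℂ f := LinearIndependent.of_comp W.subtype h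
    simpa using h'.fintype_card_le_finrank

end CfsgLib.Char.HalfDegree
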