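import Cfsg.Agent.Lib.Classical.Dickson.PSL
import Cfsg.Agent.Lib.PLocal.SLTwo.Generation
import Cfsg.Agent.Lib.Recog.SimpleSixty
import Cfsg.Agent.Lib.Classical.PSLTwoSimple

/-!
# Finite Möbius groups whose order is divisible by `p` exactly once
-/

set_option autoImplicit false

namespace CfsgLib.Char.HalfDegree

open Matrix CfsgLib.Classical.Dickson
open scoped MatrixGroups

variable {L : Type*} [Field L] [IsAlgClosed L] {p : ℕ} [Fact p.Prime] [CharP L p]

/-- With two Sylow subgroups the group is `PSL(2, p)` or `PGL(2, p)`. -/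
theorem mob_cases (hp5 : 5 ≤ p) (G : Subgroup (Mob L)) [Finite G] (hsq : ¬ p ^ 2 ∣ Nat.card G)
    {a b : G} (ha : orderOf a = p) (hb : orderOf b = p) (hab : b ∉ Subgroup.zpowers a) :
    Nonempty (G ≃* ProjectiveSpecialLinearGroup (Fin 2) (ZMod p)) ∨
      Nonempty (G ≃* ProjGenLinGroup (Fin 2) (ZMod p)) := by
  classical
  have hp : p.Prime := Fact.out
  have hdiv : p ∣ Nat.card G := ha ▸ orderOf_dvd_natCard a
  rcases structure_cases (p := p) (G := G) with h | h | h | h | h | h | h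
  · exact absurd hdiv h.2
  · obtain ⟨-, x, hx⟩ := h
    exfalso
    apply hab
    obtain ⟨n, hn⟩ := unCard_prime_pow (p := p) (G := G) x
    have hle : Subgroup.zpowers a ≤ unip G p x :=
      Subgroup.zpowers_le.2 ⟨hx a, ha ▸ pow_orderOf_eq_one a⟩
    have hb' : b ∈ unip G p x := ⟨hx b, hb ▸ pow_orderOf_eq_one b⟩
    have heq := Subgroup.eq_of_le_of_card_ge hle (by
      rw [card_unip, hn, Nat.card_zpowers, ha]
      rcases Nat.lt_or_ge n 2 with h | h
      · calc p ^ n ≤ p ^ 1 := Nat.pow_le_pow_right hp.pos (by omega)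
          _ = p := pow_one p
      · exact absurd ((pow_dvd_pow p h).trans (hn ▸ card_unip (G := G) (p := p) x ▸
          Subgroup.card_subgroup_dvd_card _)) hsq)
    exact heq ▸ hb'
  · obtain ⟨n, -, hn, -, ⟨e⟩⟩ := h
    rw [Nat.card_congr e.toEquiv, DihedralGroup.nat_card] at hdiv
    rcases hp.dvd_mul.1 hdiv with h | h
    · have := Nat.le_of_dvd (by norm_num) h; omega
    · exact absurd h hn
  · obtain ⟨e⟩ := h
    rw [Nat.card_congr e.toEquiv, nat_card_alternatingGroup, Nat.card_fin,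
      show Nat.factorial 4 / 2 = 2 * 2 * 3 by decide] at hdiv
    rcases hp.dvd_mul.1 hdiv with h | h
    · rcases hp.dvd_mul.1 h with h | h <;> have := Nat.le_of_dvd (by norm_num) h <;> omega
    · have := Nat.le_of_dvd (by norm_num) h; omega
  · obtain ⟨e⟩ := h
    rw [Nat.card_congr e.toEquiv, Nat.card_perm, Nat.card_fin,
      show Nat.factorial 4 = 2 * 2 * 2 * 3 by decide] at hdiv
    rcases hp.dvd_mul.1 hdiv with h | h
    · rcases hp.dvd_mul.1 h with h | h
      · rcases hp.dvd_mul.1 h with h | h <;> have := Nat.le_of_dvd (by norm_num) h <;> omega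
      · have := Nat.le_of_dvd (by norm_num) h; omega
    · have := Nat.le_of_dvd (by norm_num) h; omega
  · obtain ⟨e⟩ := h
    rw [Nat.card_congr e.toEquiv, nat_card_alternatingGroup, Nat.card_fin,
      show Nat.factorial 5 / 2 = 2 * 2 * 3 * 5 by decide] at hdiv
    have hp' : p = 5 := by
      rcases hp.dvd_mul.1 hdiv with h | h
      · rcases hp.dvd_mul.1 h with h | h
        · rcases hp.dvd_mul.1 h with h | h <;> have := Nat.le_of_dvd (by norm_num) h <;> omega
        · have := Nat.le_of_dvd (by norm_num) h; omega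
      · exact (Nat.prime_dvd_prime_iff_eq hp (by norm_num)).1 h
    subst hp'
    left
    have hc := CfsgLib.Classical.Two.card_PSL_two (F := ZMod 5)
    rw [ZMod.card, show Nat.gcd 2 (5 - 1) = 2 by decide] at hc
    haveI := CfsgLib.Classical.isSimpleGroup_PSL_two (F := ZMod 5) (by rw [ZMod.card]; norm_num)
    obtain ⟨e'⟩ := CfsgLib.Recog.Sixty.iso_alt_five (G := ProjectiveSpecialLinearGroup (Fin 2) (ZMod 5)) (by omega)
    exact ⟨e.trans e'.symm⟩
  · obtain ⟨K, h, hK, hKG⟩ := exists_subfield h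
    haveI : Finite K := hK
    letI : Fintype K := Fintype.ofFinite K
    haveI : CharP K p := (K.subtype.charP_iff K.subtype.injective p).2 inferInstance
    obtain ⟨n, hn⟩ : ∃ n : ℕ+, Fintype.card K = p ^ (n : ℕ) := by
      obtain ⟨m, -, hm⟩ := FiniteField.card K p
      exact ⟨m, hm⟩
    let ψ : Multiplicative K →* ProjectiveSpecialLinearGroup (Fin 2) K :=
      (QuotientGroup.mk' _).comp (MonoidHom.mk' (fun t => CfsgLib.PLocal.SLTwo.U t.toAdd) fun s t => by
        rw [CfsgLib.PLocal.SLTwo.U_mul, toAdd_mul])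
    have hψ : Function.Injective ψ := (injective_iff_map_eq_one ψ).2 fun t ht => by
      have hm : CfsgLib.PLocal.SLTwo.U t.toAdd ∈ Subgroup.center _ := (QuotientGroup.eq_one_iff _).1 ht
      rw [Matrix.SpecialLinearGroup.mem_center_iff] at hm
      obtain ⟨r, -, hr⟩ := hm
      have := congrArg (fun M : Matrix (Fin 2) (Fin 2) K => M 0 1) hr
      simp [CfsgLib.PLocal.SLTwo.U] at this
      exact toAdd_eq_zero.1 this.symm
    have hdvd : p ^ (n : ℕ) ∣ Nat.card G := by
      rw [← hn, ← Nat.card_eq_fintype_card, show Nat.card K = Nat.card (Multiplicative K) from rfl]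
      rw [← Nat.card_congr (G.equivMapOfInjective (MulAut.conj h).toMonoidHom (MulAut.conj h).injective).symm.toEquiv]
      rcases hKG with e | ⟨-, e⟩ <;> rw [e]
      · refine (Subgroup.card_dvd_of_injective ((ProjectiveSpecialLinearGroup.toPGL).comp ψ)
          (ProjectiveSpecialLinearGroup.toPGL_injective.comp hψ)).trans ?_
        exact (Nat.card_congr (MonoidHom.ofInjective (mapPGL_injective K)).toEquiv).symm ▸ dvd_rfl
      · refine (Subgroup.card_dvd_of_injective ψ hψ).trans ?_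
        exact (Nat.card_congr (MonoidHom.ofInjective (mapPSL_injective K)).toEquiv).symm ▸ dvd_rfl
    have hn1 : (n : ℕ) = 1 := by
      by_contra hne
      exact hsq ((pow_dvd_pow p (by have : 0 < (n : ℕ) := n.pos; omega)).trans hdvd)
    rw [hn1, pow_one] at hn
    let r : ZMod p ≃+* K := ZMod.ringEquivOfPrime K hp hn
    let eG := G.equivMapOfInjective (MulAut.conj h).toMonoidHom (MulAut.conj h).injective
    rcases hKG with e | ⟨-, e⟩
    · exact Or.inr ⟨(eG.trans (MulEquiv.subgroupCongr e)).trans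
        ((MonoidHom.ofInjective (mapPGL_injective K)).symm.trans (pglCongr r.symm))⟩
    · exact Or.inl ⟨(eG.trans (MulEquiv.subgroupCongr e)).trans
        ((MonoidHom.ofInjective (mapPSL_injective K)).symm.trans (pslCongr r.symm))⟩

section Conjugation

open CfsgLib.PLocal.SLTwo

variable {q : ℕ} [Fact q.Prime]

theorem exists_conj_U_of_order (hq : q ≠ 2) {u : ProjectiveSpecialLinearGroup (Fin 2) (ZMod q)}
    (hu : orderOf u = q) : ∃ (g : S2 (ZMod q)) (t : ZMod q),
      (g : ProjectiveSpecialLinearGroup (Fin 2) (ZMod q)) * u * (g : ProjectiveSpecialLinearGroup (Fin 2) (ZMod q))⁻¹ =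
        (U t : S2 (ZMod q)) := by
  obtain ⟨A, rfl⟩ := QuotientGroup.mk_surjective u
  have hAp : A ^ q ∈ Subgroup.center (S2 (ZMod q)) := by
    rw [← QuotientGroup.eq_one_iff, QuotientGroup.mk_pow]
    exact orderOf_dvd_iff_pow_eq_one.1 hu.dvd
  rw [Matrix.SpecialLinearGroup.mem_center_iff] at hAp
  obtain ⟨r, hr, hrA⟩ := hAp
  rw [Fintype.card_fin] at hr
  obtain ⟨B, hB, hBp⟩ : ∃ B : S2 (ZMod q), (B : ProjectiveSpecialLinearGroup (Fin 2) (ZMod q)) = A ∧ B ^ q = 1 := by
    rcases sq_eq_one_iff.1 hr with h | h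
    · refine ⟨A, rfl, Subtype.ext ?_⟩
      rw [← hrA, h]; simp
    · refine ⟨-A, ?_, ?_⟩
      · rw [QuotientGroup.eq, Matrix.SpecialLinearGroup.mem_center_iff]
        refine ⟨-1, by simp, ?_⟩
        rw [show (-A)⁻¹ * A = (-1 : S2 (ZMod q)) by
          rw [inv_mul_eq_iff_eq_mul]; simp]
        simp [← Matrix.diagonal_neg, ← Matrix.diagonal_one]
      · rw [Odd.neg_pow ((Fact.out : q.Prime).odd_of_ne_two hq)]
        refine Subtype.ext ?_
        simp [← hrA, h]
  obtain ⟨g, t, hg⟩ := exists_conj_U (tr_eq_two_of_pow_p hBp)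
  exact ⟨g, t, by rw [← hB, ← hg]; simp⟩

theorem U_pow_val (t a : ZMod q) : U t ^ a.val = U (a * t) := by
  rw [U_pow, ZMod.natCast_zmod_val]

theorem psl_conj_sq (hq : q ≠ 2) {u : ProjectiveSpecialLinearGroup (Fin 2) (ZMod q)} (hu : orderOf u = q)
    {a : ZMod q} (ha : a ≠ 0) : ∃ n : ProjectiveSpecialLinearGroup (Fin 2) (ZMod q),
      n * u = u ^ (a * a).val * n := by
  obtain ⟨g, t, hg⟩ := exists_conj_U_of_order hq hu
  let d : S2 (ZMod q) := ⟨!![a, 0; 0, a⁻¹], by simp [Matrix.det_fin_two_of, ha]⟩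
  have hd : d * U t = U t ^ (a * a).val * d := by
    rw [U_pow_val]
    refine Subtype.ext ?_
    rw [Matrix.SpecialLinearGroup.coe_mul, Matrix.SpecialLinearGroup.coe_mul]
    ext i j
    fin_cases i <;> fin_cases j <;> simp [d, U, Matrix.mul_apply, Fin.sum_univ_two]
    all_goals field_simp
  set π := QuotientGroup.mk' (Subgroup.center (S2 (ZMod q)))
  have h1 : π d * π (U t) = π (U t) ^ (a * a).val * π d := by rw [← map_mul, hd, map_mul, map_pow]
  refine ⟨(π g)⁻¹ * π d * π g, ?_⟩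
  change π g * u * (π g)⁻¹ = π (U t) at hg
  rw [← hg] at h1
  rw [conj_pow] at h1
  have := congrArg (fun z => (π g)⁻¹ * z * π g) h1
  simpa [mul_assoc] using this

theorem pgl_conj (hq : q ≠ 2) {u : ProjGenLinGroup (Fin 2) (ZMod q)} (hu : orderOf u = q) {a : ZMod q}
    (ha : a ≠ 0) : ∃ n : ProjGenLinGroup (Fin 2) (ZMod q), n * u = u ^ a.val * n := by
  have hqp : q.Prime := Fact.out
  obtain ⟨w, hw⟩ : ∃ w : ProjectiveSpecialLinearGroup (Fin 2) (ZMod q), ProjectiveSpecialLinearGroup.toPGL w = u := by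
    obtain ⟨k, hk⟩ := hqp.odd_of_ne_two hq
    have hup : u ^ q = 1 := orderOf_dvd_iff_pow_eq_one.1 hu.dvd
    have e : u = u ^ (k + 1) * u ^ (k + 1) := by
      rw [← pow_add, show k + 1 + (k + 1) = q + 1 by omega, pow_succ, hup, one_mul]
    obtain ⟨g, hg⟩ := ProjGenLinGroup.mk_surjective (u ^ (k + 1))
    set s := Matrix.GeneralLinearGroup.det g
    have hdet : (((s⁻¹ : (ZMod q)ˣ) : ZMod q) • ((g * g : GL (Fin 2) (ZMod q)) : Matrix (Fin 2) (Fin 2) (ZMod q))).det = 1 := by
      rw [Matrix.det_smul, Fintype.card_fin, Units.val_mul, Matrix.det_mul, ← Matrix.GeneralLinearGroup.val_det_apply,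
        ← pow_two, ← mul_pow, Units.inv_mul, one_pow]
    obtain ⟨A, hA⟩ : ∃ A : S2 (ZMod q), A.1 = ((s⁻¹ : (ZMod q)ˣ) : ZMod q) •
        ((g * g : GL (Fin 2) (ZMod q)) : Matrix (Fin 2) (Fin 2) (ZMod q)) := ⟨⟨_, hdet⟩, rfl⟩
    refine ⟨QuotientGroup.mk A, ?_⟩
    rw [ProjectiveSpecialLinearGroup.toPGL_mk, e, ← hg, ← map_mul]
    exact (mk_eq_of_smul s⁻¹ hA).symm
  obtain ⟨g, t, hg⟩ := exists_conj_U_of_order hq (u := w)
    (by rw [← orderOf_injective ProjectiveSpecialLinearGroup.toPGL ProjectiveSpecialLinearGroup.toPGL_injective w, hw, hu])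
  let d : GL (Fin 2) (ZMod q) := Matrix.GeneralLinearGroup.mkOfDetNeZero !![a, 0; 0, 1] (by simp [Matrix.det_fin_two_of, ha])
  have hd : d * SpecialLinearGroup.toGL (U t) = SpecialLinearGroup.toGL (U t) ^ a.val * d := by
    rw [← map_pow, U_pow_val]
    refine Units.ext ?_
    ext i j
    fin_cases i <;> fin_cases j <;> simp [d, Matrix.mul_apply, Fin.sum_univ_two, U, Matrix.SpecialLinearGroup.toGL]
  set c : ProjGenLinGroup (Fin 2) (ZMod q) := ProjGenLinGroup.mk (SpecialLinearGroup.toGL g)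
  have h1 := congrArg ProjGenLinGroup.mk hd
  rw [map_mul, map_mul, map_pow] at h1
  have h2 := congrArg ProjectiveSpecialLinearGroup.toPGL hg
  simp only [map_mul, map_inv, hw, ProjectiveSpecialLinearGroup.toPGL_mk] at h2
  rw [← h2, conj_pow] at h1
  refine ⟨c⁻¹ * ProjGenLinGroup.mk d * c, ?_⟩
  have := congrArg (fun z => c⁻¹ * z * c) h1
  simpa [mul_assoc, c] using this

end Conjugation

end CfsgLib.Char.HalfDegree
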