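import Cfsg.Agent.Lib.Blocks.Brauer.Data
import Cfsg.Agent.Lib.Char.Basic
import Mathlib.RepresentationTheory.Character

/-!
# A faithful representation in characteristic `p` of no larger degree
-/

set_option autoImplicit false

universe u

namespace CfsgLib.Char.HalfDegree

open Cfsg MonoidAlgebra CfsgLib.Blocks CfsgLib.Pairs CfsgLib.Star CfsgLib.IBr CfsgLib.Char

variable {G : Type u} [Group G] [Fintype G] {p : ℕ} [Fact p.Prime] {M : Ideal AlgInt} [M.IsPrime]

theorem exists_mod_embedding (hM : IsPModular p M) {d : ℕ} (hd : d < p)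
    (ρ : Representation ℂ G (Fin d → ℂ)) (hρ : ∀ g : G, ρ.character g = ρ.character 1 → g = 1)
    (hO : ∀ K : Subgroup G, K.Normal → IsPGroup p K → K = ⊥) :
    ∃ (m : ℕ) (σ : G →* Module.End (Res M) (Fin m → Res M)), m ≤ d ∧ Function.Injective σ := by
  classical
  have := Fintype.ofFinite (IrrCharacter G)
  haveI := charP_residueField hM
  haveI : CharP (Res M) p := charP_residueField hM
  obtain ⟨D⟩ := nonempty_data (G := G) (M := M)
  set χ := ρ.character with hχ
  obtain ⟨mu, hmu⟩ := IsChar.exists_sum (G := G) (χ := χ) ⟨d, ρ, rfl⟩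
  have hsum : ∀ h : G, ¬ p ∣ orderOf h → χ h = ∑ δ : Fin D.n,
      ((∑ θ : IrrCharacter G, mu θ * D.dec θ δ : ℕ) : ℂ) * D.phi p δ h := by
    intro h hh
    have e : ∀ θ : IrrCharacter G, (θ : G → ℂ) h = ∑ δ, (D.dec θ δ : ℂ) * D.phi p δ h := fun θ => by
      have := congrFun (D.pRegularPart_eq_sum hM θ) h
      simpa [pRegularPart, IsPRegular, hh, Finset.sum_apply] using this
    rw [hmu, Finset.sum_apply]
    simp only [Pi.smul_apply, smul_eq_mul, e, Finset.mul_sum, Nat.cast_sum, Nat.cast_mul, Finset.sum_mul]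
    rw [Finset.sum_comm]
    exact Finset.sum_congr rfl fun δ _ => Finset.sum_congr rfl fun θ _ => by ring
  set w : Fin D.n → ℕ := fun δ => ∑ θ : IrrCharacter G, mu θ * D.dec θ δ with hw
  have h1p : ¬ p ∣ orderOf (1 : G) := by simpa using (Fact.out : p.Prime).ne_one
  have hχ1 : χ 1 = d := by rw [hχ, Representation.char_one, Module.finrank_fin_fun]
  have hdeg : ∑ δ, w δ * D.d δ = d := by
    have h := hsum 1 h1p
    rw [hχ1] at h
    simp only [D.phi_one hM] at h
    exact_mod_cast h.symm
  set Δ := Finset.univ.filter (fun δ => w δ ≠ 0) with hΔ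
  have hle : ∑ δ ∈ Δ, D.d δ ≤ d := by
    rw [← hdeg]
    calc ∑ δ ∈ Δ, D.d δ ≤ ∑ δ ∈ Δ, w δ * D.d δ := Finset.sum_le_sum fun δ hδ =>
          Nat.le_mul_of_pos_left _ (Nat.pos_of_ne_zero (Finset.mem_filter.1 hδ).2)
      _ ≤ ∑ δ, w δ * D.d δ := Finset.sum_le_sum_of_subset (Finset.subset_univ _)
  let V := (δ : Δ) → (Fin (D.d δ) → Res M)
  let τ : G →* Module.End (Res M) V :=
    { toFun := fun g => LinearMap.pi fun δ => (Matrix.toLin' (D.ψ (single g 1) δ)) ∘ₗ LinearMap.proj δ
      map_one' := by
        refine LinearMap.ext fun v => funext fun δ => ?_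
        show Matrix.toLin' (D.ψ (single 1 1) δ) (v δ) = v δ
        rw [← MonoidAlgebra.one_def, map_one, Pi.one_apply, Matrix.toLin'_one, LinearMap.id_apply]
      map_mul' := fun g h => by
        refine LinearMap.ext fun v => funext fun δ => ?_
        show Matrix.toLin' (D.ψ (single (g * h) 1) δ) (v δ) =
          Matrix.toLin' (D.ψ (single g 1) δ) (Matrix.toLin' (D.ψ (single h 1) δ) (v δ))
        rw [show single (g * h) (1 : Res M) = single g 1 * single h 1 by rw [single_mul_single, mul_one],
          map_mul, Pi.mul_apply, Matrix.toLin'_mul, LinearMap.comp_apply] }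
  have hτ : ∀ g, τ g = 1 → ∀ δ : Δ, D.ψ (single g 1) δ = 1 := fun g hg δ => by
    apply Matrix.toLin'.injective
    rw [Matrix.toLin'_one]
    refine LinearMap.ext fun v => ?_
    have := congrArg (fun f : Module.End (Res M) V => f (Pi.single δ v) δ) hg
    change Matrix.toLin' (D.ψ (single g 1) δ) ((Pi.single δ v : V) δ) = (Pi.single δ v : V) δ at this
    rw [Pi.single_eq_same] at this
    simpa using this
  -- elements of `p'`-order are faithfully represented
  have hreg : ∀ g : G, ¬ p ∣ orderOf g → τ g = 1 → g = 1 := by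
    intro g hg hτg
    refine hρ g ?_
    set Z := Subgroup.zpowers g with hZ
    have hz : ∀ z : Z, ¬ p ∣ orderOf (z : G) ∧ τ (z : G) = 1 := by
      rintro ⟨z, i, rfl⟩
      refine ⟨fun h => hg (h.trans ?_), ?_⟩
      · exact orderOf_dvd_of_mem_zpowers ⟨i, rfl⟩
      · have hker : g ∈ τ.ker := hτg
        exact Subgroup.zpow_mem _ hker i
    set inv := Module.finrank ℂ (Representation.invariants (ρ.comp Z.subtype)) with hinv
    have havg := FDRep.average_char_eq_finrank_invariants (FDRep.of (ρ.comp Z.subtype))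
    have hZ0 : (Nat.card Z : ℂ) ≠ 0 := Nat.cast_ne_zero.2 Nat.card_pos.ne'
    have hsumZ : ∑ z : Z, χ (z : G) = (Nat.card Z : ℂ) * inv := by
      rw [inv_mul_eq_iff_eq_mul₀ hZ0] at havg
      exact havg
    have hres : ∀ z : Z, ∃ s : localRing M, (s : ℂ) = χ (z : G) ∧ resHom M s = (d : Res M) := by
      intro z
      obtain ⟨hzp, hzt⟩ := hz z
      refine ⟨∑ δ, (w δ : localRing M) * D.phiO δ (z : G), ?_, ?_⟩
      · rw [AddSubmonoidClass.coe_finsetSum, hsum _ hzp]
        refine Finset.sum_congr rfl fun δ _ => ?_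
        rw [Subring.coe_mul, D.phiO_coe (p := p) δ hzp]
        simp [hw]
      · rw [map_sum, ← hdeg]
        push_cast
        refine Finset.sum_congr rfl fun δ _ => ?_
        rw [map_mul, map_natCast, D.phiO_res hM δ hzp]
        by_cases h0 : w δ = 0
        · simp [h0]
        · rw [D.tau_apply, hτ _ hzt ⟨δ, Finset.mem_filter.2 ⟨Finset.mem_univ _, h0⟩⟩, Matrix.trace_one,
            Fintype.card_fin]
    choose s hs hsd using hres
    have heq : ∑ z : Z, s z = (Nat.card Z : localRing M) * (inv : localRing M) := by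
      apply Subtype.ext
      push_cast
      rw [Finset.sum_congr rfl fun z _ => hs z, hsumZ]
    have h := congrArg (resHom M) heq
    rw [map_sum, Finset.sum_congr rfl fun z _ => hsd z, Finset.sum_const, Finset.card_univ, nsmul_eq_mul,
      map_mul, map_natCast, map_natCast, ← Nat.card_eq_fintype_card] at h
    have hne : (Nat.card Z : Res M) ≠ 0 := by
      rw [Ne, CharP.cast_eq_zero_iff (Res M) p, hZ, Nat.card_zpowers]
      exact hg
    have h2 := mul_left_cancel₀ hne h
    rw [CharP.natCast_eq_natCast (Res M) p] at h2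
    have hid : inv ≤ d := (Submodule.finrank_le _).trans (Module.finrank_fin_fun ℂ).le
    have heqd : inv = d := (h2.eq_of_lt_of_lt hd (lt_of_le_of_lt hid hd)).symm
    have htop : Representation.invariants (ρ.comp Z.subtype) = ⊤ :=
      Submodule.eq_top_of_finrank_eq (by rw [← hinv, heqd, Module.finrank_fin_fun])
    have hρg : ρ g = 1 := LinearMap.ext fun v => by
      have hv : v ∈ Representation.invariants (ρ.comp Z.subtype) := htop ▸ Submodule.mem_top
      exact hv ⟨g, Subgroup.mem_zpowers g⟩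
    rw [hχ, Representation.char_one, Representation.character, hρg, LinearMap.trace_one]
  have hinj : Function.Injective τ := by
    rw [← MonoidHom.ker_eq_bot_iff]
    refine hO _ inferInstance ?_
    rintro ⟨g, hg⟩
    obtain ⟨u, r, hu, hr, hcm, rfl⟩ := exists_decomp (p := p) g
    have hu' := hu
    obtain ⟨n, hn⟩ := hu'
    refine ⟨n, Subtype.ext ?_⟩
    show (u * r) ^ p ^ n = 1
    have hker : (u * r) ^ p ^ n ∈ τ.ker := pow_mem hg _
    rw [hcm.mul_pow, ← hn, pow_orderOf_eq_one, one_mul] at hker ⊢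
    rw [← hn] at *
    exact hreg _ (fun h => hr (h.trans (orderOf_pow_dvd _))) hker
  let b := Module.finBasis (Res M) V
  have hm : Module.finrank (Res M) V = ∑ δ ∈ Δ, D.d δ := by
    rw [Module.finrank_pi_fintype]
    simp only [Module.finrank_fin_fun]
    exact Finset.sum_coe_sort Δ fun δ => D.d δ
  refine ⟨Module.finrank (Res M) V, ((b.equivFun.conjAlgEquiv (Res M)).toMonoidHom).comp τ, hm ▸ hle, ?_⟩
  exact ((b.equivFun.conjAlgEquiv (Res M)).injective).comp hinj

end CfsgLib.Char.HalfDegree
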