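import Mathlib

/-!
# Idempotents congruent modulo maps lowering a filtration
-/

set_option autoImplicit false

namespace CfsgLib.Char.HalfDegree

open Polynomial

variable {k : Type*} [Field k] {W : Type*} [AddCommGroup W] [Module k W]

/-- Commutes with `U` and lowers the filtration by the kernels of its powers. -/
def IsLowering (U Z : Module.End k W) : Prop :=
  Commute Z U ∧ ∀ (j : ℕ) (w : W), (U ^ (j + 1)) w = 0 → (U ^ j) (Z w) = 0

variable {U Z Z' C : Module.End k W}

theorem IsLowering.add (h : IsLowering U Z) (h' : IsLowering U Z') : IsLowering U (Z + Z') :=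
  ⟨h.1.add_left h'.1, fun j w hw => by rw [LinearMap.add_apply, map_add, h.2 j w hw, h'.2 j w hw, add_zero]⟩

theorem IsLowering.neg (h : IsLowering U Z) : IsLowering U (-Z) :=
  ⟨h.1.neg_left, fun j w hw => by rw [LinearMap.neg_apply, map_neg, h.2 j w hw, neg_zero]⟩

theorem IsLowering.mul_left (h : IsLowering U Z) (hC : Commute C U) : IsLowering U (C * Z) :=
  ⟨hC.mul_left h.1, fun j w hw => by
    rw [Module.End.mul_apply, ← Module.End.mul_apply (U ^ j), ← (hC.pow_right j).eq, Module.End.mul_apply,
      h.2 j w hw, map_zero]⟩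

theorem IsLowering.mul_right (h : IsLowering U Z) (hC : Commute C U) : IsLowering U (Z * C) :=
  ⟨h.1.mul_left hC, fun j w hw => h.2 j (C w) (by
    rw [← Module.End.mul_apply, ← (hC.pow_right (j + 1)).eq, Module.End.mul_apply, hw, map_zero])⟩

theorem IsLowering.pow_sub {a b : Module.End k W} (ha : Commute a U) (hb : Commute b U)
    (h : IsLowering U (a - b)) : ∀ n : ℕ, IsLowering U (a ^ n - b ^ n)
  | 0 => by simp only [pow_zero, sub_self]; exact ⟨Commute.zero_left _, fun j w _ => by simp⟩
  | n + 1 => by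
    have e : a ^ (n + 1) - b ^ (n + 1) = a ^ n * (a - b) + (a ^ n - b ^ n) * b := by
      rw [pow_succ, pow_succ]; noncomm_ring
    rw [e]
    exact (h.mul_left (ha.pow_left n)).add ((IsLowering.pow_sub ha hb h n).mul_right hb)

theorem IsLowering.eq_zero_of_apply_eq (h : IsLowering U Z) {n : ℕ} (hU : U ^ n = 0) {w : W}
    (hw : Z w = w) : w = 0 := by
  suffices ∀ i, i ≤ n → (U ^ (n - i)) w = 0 by simpa using this n le_rfl
  intro i
  induction i with
  | zero => intro _; rw [Nat.sub_zero, hU]; rfl
  | succ i ih =>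
    intro hi
    have := h.2 (n - (i + 1)) w (by rw [show n - (i + 1) + 1 = n - i by omega]; exact ih (by omega))
    rwa [hw] at this

theorem IsLowering.pow_eq_zero (h : IsLowering U Z) {n : ℕ} (hU : U ^ n = 0) : Z ^ n = 0 := by
  ext w
  suffices ∀ i, i ≤ n → (U ^ (n - i)) ((Z ^ i) w) = 0 by simpa using this n le_rfl
  intro i
  induction i with
  | zero => intro _; rw [Nat.sub_zero, hU]; rfl
  | succ i ih =>
    intro hi
    rw [pow_succ', Module.End.mul_apply]
    exact h.2 _ _ (by rw [show n - (i + 1) + 1 = n - i by omega]; exact ih (by omega))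

/-- An idempotent polynomial in `f` congruent to an idempotent congruent to `f`. -/
theorem exists_idempotent {f π : Module.End k W} {n : ℕ} (hU : U ^ n = 0) (hf : Commute f U)
    (hπU : Commute π U) (hπ : π * π = π) (hD : IsLowering U (f - π)) :
    ∃ e : Module.End k W, e * e = e ∧ (∀ g, Commute g f → Commute g e) ∧ (∀ w, f w = w → e w = w) ∧
      (∀ w, e w = w → π w = 0 → w = 0) ∧ ∀ w, π w = w → e w = 0 → w = 0 := by
  have hπidem : IsIdempotentElem π := hπ
  set M := n + 1 with hM
  have hsq : IsLowering U (f * (1 - f)) := by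
    have e : f * (1 - f) = (f - π) + -(f ^ 2 - π ^ 2) := by rw [pow_two, pow_two, hπ]; noncomm_ring
    rw [e]
    exact hD.add (IsLowering.pow_sub hf hπU hD 2).neg
  have hnil : (f * (1 - f)) ^ M = 0 := by rw [hM, pow_succ, hsq.pow_eq_zero hU, zero_mul]
  set e := 1 - (1 - f ^ M) ^ M with he
  have hidem : e * e = e := by
    have hdvd : ((X : k[X]) * (1 - X)) ^ M ∣ (1 - (1 - X ^ M) ^ M) * (1 - X ^ M) ^ M := by
      rw [mul_pow]
      refine mul_dvd_mul ?_ (pow_dvd_pow_of_dvd ?_ M)
      · have := sub_dvd_pow_sub_pow (1 : k[X]) (1 - X ^ M) M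
        simpa using this
      · have := sub_dvd_pow_sub_pow (1 : k[X]) X M
        simpa using this
    obtain ⟨q, hq⟩ := hdvd
    have h := congrArg (aeval f) hq
    simp only [map_mul, map_sub, map_one, map_pow, aeval_X, hnil, zero_mul] at h
    rw [← he, show (1 - f ^ M) ^ M = 1 - e by rw [he]; abel, mul_sub, mul_one, sub_eq_zero] at h
    exact h.symm
  have hfM : Commute (1 - f ^ M) U := (Commute.one_left U).sub_left (hf.pow_left M)
  have hπM : π ^ M = π := hπidem.pow_succ_eq n
  have hlow : IsLowering U (e - π) := by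
    have h1 : IsLowering U ((1 - f ^ M) - (1 - π)) := by
      have := (IsLowering.pow_sub hf hπU hD M).neg
      rwa [hπM, show -(f ^ M - π) = (1 - f ^ M) - (1 - π) by abel] at this
    have h2 := (IsLowering.pow_sub hfM ((Commute.one_left U).sub_left hπU) h1 M).neg
    rwa [hπidem.one_sub.pow_succ_eq n, show -((1 - f ^ M) ^ M - (1 - π)) = e - π by rw [he]; abel] at h2
  refine ⟨e, hidem, fun g hg => ?_, fun w hw => ?_, fun w h1 h2 => ?_, fun w h1 h2 => ?_⟩
  · exact (Commute.one_right g).sub_right (((Commute.one_right g).sub_right (hg.pow_right M)).pow_right M)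
  · have h1 : ∀ i, (f ^ i) w = w := fun i => by
      induction i with
      | zero => simp
      | succ i ih => rw [pow_succ', Module.End.mul_apply, ih, hw]
    rw [he, LinearMap.sub_apply, Module.End.one_apply, hM, pow_succ, Module.End.mul_apply,
      LinearMap.sub_apply, Module.End.one_apply, h1, sub_self, map_zero, sub_zero]
  · exact hlow.eq_zero_of_apply_eq hU (by rw [LinearMap.sub_apply, h1, h2, sub_zero])
  · exact hlow.neg.eq_zero_of_apply_eq hU (by rw [LinearMap.neg_apply, LinearMap.sub_apply, h1, h2, zero_sub, neg_neg])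

end CfsgLib.Char.HalfDegree
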