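import Cfsg.Agent.Lib.Char.HalfDegree.FixedTrace
import Cfsg.Agent.Lib.Char.HalfDegree.LoweringIdem
import Cfsg.Agent.Lib.Char.HalfDegree.SylowPrime

/-!
# An orthogonal summand of dimension three

A representation in characteristic `p` in which an element `x` of order `p`, `p²` not dividing the
group order, has a suitable fixed eigenvector of the normalizer gives an orthogonal representation
of dimension three.
-/

set_option autoImplicit false
set_option maxHeartbeats 1600000

namespace CfsgLib.Char.HalfDegree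

variable {k : Type*} [Field k] {p : ℕ} [Fact p.Prime] [CharP k p] {G : Type*} [Group G] [Finite G]
  {W : Type*} [AddCommGroup W] [Module k W]

omit [Fact p.Prime] [CharP k p] in
theorem apply_pow_expand (X : Module.End k W) {w : W} (h3 : ((X - 1) ^ 3 : Module.End k W) w = 0) (n : ℕ) :
    ∃ c : k, (X ^ n) w = w + (n : k) • (X - 1) w + c • ((X - 1) ^ 2 : Module.End k W) w := by
  induction n with
  | zero => exact ⟨0, by simp⟩
  | succ n ih =>
    obtain ⟨c, hc⟩ := ih
    refine ⟨c + (n : k), ?_⟩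
    have e : ∀ v, X v = v + (X - 1) v := fun v => by simp
    have h3' : (X - 1) (((X - 1) ^ 2 : Module.End k W) w) = 0 := by rw [← Module.End.mul_apply, ← pow_succ']; exact h3
    have h2' : (X - 1) ((X - 1) w) = ((X - 1) ^ 2 : Module.End k W) w := by rw [pow_two, Module.End.mul_apply]
    rw [pow_succ', Module.End.mul_apply, hc, e, map_add (X - 1), map_add (X - 1), map_smul (X - 1),
      map_smul (X - 1), h3', h2', smul_zero, add_zero, Nat.cast_succ, add_smul, add_smul, one_smul]
    abel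

omit [Fact p.Prime] [CharP k p] in
theorem sq_apply_pow_sub_one (X : Module.End k W) {w : W} (h3 : ((X - 1) ^ 3 : Module.End k W) w = 0) (n : ℕ) :
    ((X ^ n - 1) ^ 2 : Module.End k W) w = ((n : k) * n) • ((X - 1) ^ 2 : Module.End k W) w := by
  have hU : ∀ v, ((X - 1) ^ 3 : Module.End k W) v = 0 → ((X - 1) ^ 3 : Module.End k W) ((X ^ n - 1) v) = 0 := fun v hv => by
    have hc : Commute ((X - 1) ^ 3 : Module.End k W) (X ^ n - 1) :=
      ((((Commute.refl X).sub_left (Commute.one_left X)).pow_left 3).pow_right n).sub_right (Commute.one_right _)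
    rw [← Module.End.mul_apply, hc.eq, Module.End.mul_apply, hv, map_zero]
  have key : ∀ v, ((X - 1) ^ 3 : Module.End k W) v = 0 → ∃ c : k, (X ^ n - 1) v = (n : k) • (X - 1) v + c • ((X - 1) ^ 2 : Module.End k W) v := by
    intro v hv
    obtain ⟨c, hc⟩ := apply_pow_expand X hv n
    exact ⟨c, by rw [LinearMap.sub_apply, hc, Module.End.one_apply]; abel⟩
  obtain ⟨c, hc⟩ := key w h3
  obtain ⟨d, hd⟩ := key _ (hU w h3)
  rw [pow_two (X ^ n - 1), Module.End.mul_apply, hd, hc]
  have h3' : (X - 1) (((X - 1) ^ 2 : Module.End k W) w) = 0 := by rw [← Module.End.mul_apply, ← pow_succ']; exact h3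
  have h4 : ((X - 1) ^ 2 : Module.End k W) ((X - 1) w) = 0 := by rw [← Module.End.mul_apply, ← pow_succ]; exact h3
  have h4' : ((X - 1) ^ 2 : Module.End k W) (((X - 1) ^ 2 : Module.End k W) w) = 0 := by
    rw [pow_two (X - 1), Module.End.mul_apply, ← pow_two, h3', map_zero]
  have h2' : (X - 1) ((X - 1) w) = ((X - 1) ^ 2 : Module.End k W) w := by rw [pow_two, Module.End.mul_apply]
  simp only [map_add, map_smul, h3', h4, h4', h2', smul_zero, add_zero, smul_smul]

variable [FiniteDimensional k W]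

/-- The orthogonal representation of dimension three. -/
theorem exists_three_dim (hp5 : 5 ≤ p) (hsq : ¬ p ^ 2 ∣ Nat.card G) {x : G} (hx : orderOf x = p)
    (τ : G →* Module.End k W) {y : W} (hy0 : y ≠ 0) (hUy : (τ x - 1) y = 0)
    (hw0 : ∃ w, ((τ x - 1) ^ 2 : Module.End k W) w = y) (hnot : ∀ w, ((τ x - 1) ^ 3 : Module.End k W) w ≠ y)
    (hUp : (τ x - 1) ^ (p - 2) = 0)
    (heig : ∀ (g : G) (b : ZMod p), b ≠ 0 → g * x = x ^ b.val * g →
      τ g y = ZMod.castHom (dvd_refl p) k b • y) :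
    ∃ (σ : G →* Module.End k (Fin 3 → k)) (v : Fin 3 → k) (B : LinearMap.BilinForm k (Fin 3 → k)),
      v ≠ 0 ∧ σ x v = v ∧ B v v = 0 ∧ σ x ≠ 1 ∧
      (∀ (g : G) (c : k), σ g v = c • v → τ g y = c • y) ∧ (∀ a b, B a b = B b a) ∧
      (∀ a, (∀ b, B a b = 0) → a = 0) ∧ ∀ g a b, B (σ g a) (σ g b) = B a b := by
  classical
  have hp : p.Prime := Fact.out
  set ι := ZMod.castHom (dvd_refl p) k with hι
  set U := τ x - 1 with hUdef
  have hX : ∀ v, τ x v = v + U v := fun v => by simp [hUdef]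
  have hxp : x ^ p = 1 := hx ▸ pow_orderOf_eq_one x
  have hcU : ∀ i, Commute (U ^ i) U := fun i => (Commute.refl U).pow_left i
  have hU3y : ∀ i, 1 ≤ i → (U ^ i) y = 0 := fun i hi => by
    obtain ⟨i, rfl⟩ := Nat.exists_eq_add_of_le' hi
    rw [pow_succ, Module.End.mul_apply, hUy, map_zero]
  -- the normalizer
  set N := Subgroup.normalizer (Subgroup.zpowers x : Set G) with hN
  obtain ⟨H, hHp, hHN, hHgen⟩ := exists_complement_normalizer hsq hx
  have hxN : x ∈ N := Subgroup.le_normalizer (Subgroup.mem_zpowers x)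
  have hexp : ∀ h : H, ∃ b : ZMod p, b ≠ 0 ∧ (h : G) * x = x ^ b.val * h := fun h =>
    exists_exponent hx (hHN h.2)
  choose bb hb0 hb using hexp
  letI := Fintype.ofFinite H
  set cH : k := ((Fintype.card H : ℕ) : k) with hcH
  have hcH0 : cH ≠ 0 := by
    rw [hcH, ← Nat.card_eq_fintype_card, Ne, CharP.cast_eq_zero_iff k p]; exact hHp
  set c : H → k := fun h => ι (bb h) with hc
  have hc0 : ∀ h, c h ≠ 0 := fun h e => hb0 h ((map_eq_zero ι).1 e)
  have hy : ∀ h : H, τ (h : G) y = c h • y := fun h => heig _ _ (hb0 h) (hb h)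
  have hmul : ∀ h h' : H, c (h * h') = c h * c h' := fun h h' => by
    have e := hy (h * h')
    rw [Subgroup.coe_mul, map_mul, Module.End.mul_apply, hy, map_smul, hy, smul_smul] at e
    rw [mul_comm (c h)]
    exact (smul_left_injective k hy0 e).symm
  have hpow : ∀ (h : H) (n : ℕ) v, τ (h : G) (((τ x) ^ n) v) = ((τ x) ^ ((bb h).val * n)) (τ (h : G) v) := by
    intro h n v
    rw [← map_pow, ← map_pow, ← Module.End.mul_apply, ← Module.End.mul_apply, ← map_mul, ← map_mul, pow_mul]
    congr 2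
    exact (show SemiconjBy (h : G) x (x ^ (bb h).val) from hb h).pow_right n
  have hinv : ∀ (h : H) v, τ (h : G) (((τ x) ^ ((bb h)⁻¹).val) v) = τ x (τ (h : G) v) := by
    intro h v
    rw [hpow, ← map_pow]
    congr 2
    rw [pow_eq_pow_mod _ hxp, ← ZMod.val_mul, mul_inv_cancel₀ (hb0 h), ZMod.val_one, pow_one]
  -- the generator of the block
  obtain ⟨w₀, hw₀⟩ := hw0
  have hw₀3 : (U ^ 3) w₀ = 0 := by rw [pow_succ', Module.End.mul_apply, hw₀, hUy]
  have hsqτ : ∀ h : H, (U ^ 2) (τ (h : G) w₀) = (c h)⁻¹ • y := by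
    intro h
    have hU' : ∀ v, U (τ (h : G) v) = τ (h : G) (((τ x) ^ ((bb h)⁻¹).val - 1) v) := fun v => by
      rw [hUdef, LinearMap.sub_apply, LinearMap.sub_apply, map_sub, hinv]; rfl
    rw [pow_two U, Module.End.mul_apply, hU', hU', ← Module.End.mul_apply (_ - 1), ← pow_two,
      sq_apply_pow_sub_one (τ x) hw₀3, hw₀, map_smul, hy, smul_smul]
    congr 1
    rw [show (((bb h)⁻¹).val : k) = ι (bb h)⁻¹ by rw [← map_natCast ι, ZMod.natCast_zmod_val], map_inv₀]
    show (c h)⁻¹ * (c h)⁻¹ * c h = (c h)⁻¹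
    rw [mul_assoc, inv_mul_cancel₀ (hc0 h), mul_one]
  set f₀ := cH⁻¹ • ∑ h : H, c h • τ (h : G) w₀ with hf₀
  have hf₀2 : (U ^ 2) f₀ = y := by
    rw [hf₀, map_smul, map_sum]
    simp only [map_smul, hsqτ, smul_smul, mul_inv_cancel₀ (hc0 _), one_smul, Finset.sum_const,
      Finset.card_univ, ← Nat.cast_smul_eq_nsmul k, ← hcH]
    rw [inv_mul_cancel₀ hcH0, one_smul]
  have hf₀3 : (U ^ 3) f₀ = 0 := by rw [pow_succ', Module.End.mul_apply, hf₀2, hUy]
  have hf₀h : ∀ g : H, τ (g : G) f₀ = (c g)⁻¹ • f₀ := by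
    intro g
    rw [hf₀, map_smul, map_sum, smul_comm (c g)⁻¹, Finset.smul_sum (r := (c g)⁻¹)]
    congr 1
    refine Fintype.sum_equiv (Equiv.mulLeft g) _ _ fun h => ?_
    rw [map_smul, Equiv.coe_mulLeft, Subgroup.coe_mul, map_mul, Module.End.mul_apply, hmul, smul_smul,
      inv_mul_cancel_left₀ (hc0 g)]
  clear_value f₀
  set S := Submodule.span k ({f₀, U f₀, y} : Set W) with hS
  have hmf : f₀ ∈ S := Submodule.subset_span (by simp)
  have hmu : U f₀ ∈ S := Submodule.subset_span (by simp)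
  have hmy : y ∈ S := Submodule.subset_span (by simp)
  have hSh : ∀ (g : H) v, v ∈ S → τ (g : G) v ∈ S := by
    intro g v hv
    induction hv using Submodule.span_induction with
    | mem v hv =>
      simp only [Set.mem_insert_iff, Set.mem_singleton_iff] at hv
      rcases hv with rfl | rfl | rfl
      · rw [hf₀h]; exact S.smul_mem _ hmf
      · obtain ⟨d, hd⟩ := apply_pow_expand (τ x) hf₀3 (bb g).val
        have e : τ (g : G) (U f₀) = ((τ x) ^ (bb g).val) ((c g)⁻¹ • f₀) - (c g)⁻¹ • f₀ := by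
          rw [hUdef, LinearMap.sub_apply, Module.End.one_apply, map_sub, ← hf₀h]
          have := hpow g 1 f₀
          rw [pow_one, mul_one] at this
          rw [this]
        rw [e, map_smul, hd, ← hUdef, hf₀2]
        exact S.sub_mem (S.smul_mem _ (S.add_mem (S.add_mem hmf (S.smul_mem _ hmu)) (S.smul_mem _ hmy))) (S.smul_mem _ hmf)
      · rw [hy]; exact S.smul_mem _ hmy
    | zero => simp
    | add a b _ _ ha hb => rw [map_add]; exact S.add_mem ha hb
    | smul r a _ ha => rw [map_smul]; exact S.smul_mem _ ha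
  -- the projection
  have hy' : y ∉ LinearMap.range (U ^ 3) ⊔ Submodule.span k ({f₀, U f₀} : Set W) := by
    intro hmem
    obtain ⟨r, ⟨w, rfl⟩, s, hs, hrs⟩ := Submodule.mem_sup.1 hmem
    obtain ⟨a, b, rfl⟩ := Submodule.mem_span_pair.1 hs
    have h2 : U (U f₀) = y := by rw [← Module.End.mul_apply, ← pow_two, hf₀2]
    have hcw : ∀ i v, (U ^ i) ((U ^ 3) v) = (U ^ 3) ((U ^ i) v) := fun i v => by
      rw [← Module.End.mul_apply, ← Module.End.mul_apply, ← pow_add, ← pow_add, add_comm]
    have hu2f : (U ^ 2) (U f₀) = 0 := by rw [← Module.End.mul_apply, ← pow_succ]; exact hf₀3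
    have ha : a = 0 := by
      by_contra ha
      have e := congrArg (⇑(U ^ 2)) hrs
      rw [map_add, map_add, map_smul, map_smul, hcw, hf₀2, hu2f, hU3y 2 one_le_two, smul_zero, add_zero] at e
      refine hnot (-a⁻¹ • (U ^ 2) w) ?_
      rw [map_smul, eq_neg_of_add_eq_zero_left e, smul_neg, neg_smul, neg_neg, inv_smul_smul₀ ha]
    subst ha
    by_cases hb : b = 0
    · subst hb
      exact hnot w (by simpa using hrs)
    · have e := congrArg U hrs
      rw [zero_smul, zero_add, map_add, map_smul, h2, hUy] at e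
      have hc1 := hcw 1 w
      rw [pow_one] at hc1
      rw [hc1] at e
      refine hnot (-b⁻¹ • U w) ?_
      rw [map_smul, eq_neg_of_add_eq_zero_left e, smul_neg, neg_smul, neg_neg, inv_smul_smul₀ hb]
  obtain ⟨lam, hlam0, hlam⟩ := Submodule.exists_dual_map_eq_bot_of_notMem hy' inferInstance
  have hlamS : ∀ v ∈ LinearMap.range (U ^ 3) ⊔ Submodule.span k ({f₀, U f₀} : Set W), lam v = 0 :=
    fun v hv => (Submodule.eq_bot_iff _).1 hlam _ (Submodule.mem_map_of_mem hv)
  set mu : W →ₗ[k] k := (lam y)⁻¹ • lam with hmu'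
  have hmuy : mu y = 1 := inv_mul_cancel₀ hlam0
  have hmu0 : ∀ v ∈ LinearMap.range (U ^ 3) ⊔ Submodule.span k ({f₀, U f₀} : Set W), mu v = 0 :=
    fun v hv => by simp [hmu', hlamS v hv]
  have hmuf : mu f₀ = 0 := hmu0 _ (Submodule.mem_sup_right (Submodule.subset_span (by simp)))
  have hmuu : mu (U f₀) = 0 := hmu0 _ (Submodule.mem_sup_right (Submodule.subset_span (by simp)))
  have hmu3 : ∀ v, mu ((U ^ 3) v) = 0 := fun v => hmu0 _ (Submodule.mem_sup_left ⟨v, rfl⟩)
  set π₀ : Module.End k W := (mu ∘ₗ (U ^ 2)).smulRight f₀ + (mu ∘ₗ U).smulRight (U f₀) + mu.smulRight y with hπ₀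
  have hπ₀U : Commute π₀ U := by
    refine LinearMap.ext fun v => ?_
    have e2 : (U ^ 2) (U v) = (U ^ 3) v := by rw [← Module.End.mul_apply, ← pow_succ]
    have e1 : U (U v) = (U ^ 2) v := by rw [pow_two, Module.End.mul_apply]
    have e3 : U (U f₀) = y := by rw [← Module.End.mul_apply, ← pow_two, hf₀2]
    simp only [Module.End.mul_apply, hπ₀, LinearMap.add_apply, LinearMap.smulRight_apply, LinearMap.comp_apply,
      e2, e1, hmu3, map_add, map_smul, e3, hUy, smul_zero, zero_smul, zero_add, add_zero]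
  have hπ₀f : π₀ f₀ = f₀ := by simp [hπ₀, hf₀2, hmuy, hmuu, hmuf]
  have hπ₀u : π₀ (U f₀) = U f₀ := by rw [← Module.End.mul_apply, hπ₀U.eq, Module.End.mul_apply, hπ₀f]
  have hπ₀y : π₀ y = y := by simp [hπ₀, hU3y 2 one_le_two, hUy, hmuy]
  have hπ₀S : ∀ v ∈ S, π₀ v = v := by
    intro v hv
    induction hv using Submodule.span_induction with
    | mem v hv =>
      simp only [Set.mem_insert_iff, Set.mem_singleton_iff] at hv
      rcases hv with rfl | rfl | rfl <;> assumption
    | zero => simp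
    | add a b _ _ ha hb => rw [map_add, ha, hb]
    | smul r a _ ha => rw [map_smul, ha]
  have hπ₀im : ∀ v, π₀ v ∈ S := fun v => by
    simp only [hπ₀, LinearMap.add_apply, LinearMap.smulRight_apply]
    exact S.add_mem (S.add_mem (S.smul_mem _ hmf) (S.smul_mem _ hmu)) (S.smul_mem _ hmy)
  have hπ₀x : ∀ n : ℕ, Commute π₀ ((τ x) ^ n) := fun n => by
    refine Commute.pow_right ?_ n
    have : τ x = 1 + U := by rw [hUdef]; abel
    rw [this]
    exact (Commute.one_right _).add_right hπ₀U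
  set π : Module.End k W := cH⁻¹ • ∑ h : H, τ (h : G) * π₀ * τ ((h : G)⁻¹) with hπ
  have hπS : ∀ v ∈ S, π v = v := by
    intro v hv
    rw [hπ, LinearMap.smul_apply, LinearMap.sum_apply]
    have e : ∀ h : H, (τ (h : G) * π₀ * τ ((h : G)⁻¹)) v = v := fun h => by
      rw [Module.End.mul_apply, Module.End.mul_apply]
      rw [hπ₀S _ (by have := hSh h⁻¹ v hv; rwa [Subgroup.coe_inv] at this),
        ← Module.End.mul_apply, ← map_mul, mul_inv_cancel, map_one, Module.End.one_apply]
    rw [Finset.sum_congr rfl fun h _ => e h, Finset.sum_const, Finset.card_univ, ← Nat.cast_smul_eq_nsmul k,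
      ← hcH, inv_smul_smul₀ hcH0]
  have hπim : ∀ v, π v ∈ S := fun v => by
    rw [hπ, LinearMap.smul_apply, LinearMap.sum_apply]
    exact S.smul_mem _ (S.sum_mem fun h _ => hSh h _ (hπ₀im _))
  have hπN : ∀ n ∈ N, π ∘ₗ τ n = τ n ∘ₗ π := by
    intro n hn
    let C : Subgroup G :=
      { carrier := {g | π * τ g = τ g * π}
        one_mem' := by simp
        mul_mem' := fun {a b} ha hb => by
          show π * τ (a * b) = τ (a * b) * π
          rw [map_mul, ← mul_assoc, ha, mul_assoc, hb, mul_assoc]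
        inv_mem' := fun {a} ha => by
          show π * τ a⁻¹ = τ a⁻¹ * π
          calc π * τ a⁻¹ = τ a⁻¹ * (τ a * π) * τ a⁻¹ := by
                rw [← mul_assoc (τ a⁻¹), ← map_mul, inv_mul_cancel, map_one, one_mul]
            _ = τ a⁻¹ * π := by
                rw [← ha, mul_assoc, mul_assoc, ← map_mul, mul_inv_cancel, map_one, mul_one] }
    have hxC : x ∈ C := by
      show π * τ x = τ x * π
      rw [hπ, smul_mul_assoc, mul_smul_comm, Finset.sum_mul, Finset.mul_sum]
      congr 1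
      refine Finset.sum_congr rfl fun h _ => ?_
      obtain ⟨b, -, hb'⟩ := exists_exponent hx (hHN (h⁻¹).2)
      rw [Subgroup.coe_inv] at hb'
      have h1 : τ ((h : G)⁻¹) * τ x = (τ x) ^ b.val * τ ((h : G)⁻¹) := by rw [← map_mul, ← map_pow, ← map_mul, hb']
      have h2 : τ (h : G) * (τ x) ^ b.val = τ x * τ (h : G) := by
        rw [← map_pow, ← map_mul, ← map_mul]
        congr 1
        rw [show x ^ b.val = (h : G)⁻¹ * x * h by rw [hb']; group]
        group
      rw [mul_assoc, h1, ← mul_assoc, mul_assoc (τ (h : G)) π₀, (hπ₀x _).eq, ← mul_assoc, h2]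
      simp only [mul_assoc]
    have hHC : H ≤ C := fun g hg => by
      show π * τ g = τ g * π
      rw [hπ, smul_mul_assoc, mul_smul_comm, Finset.sum_mul, Finset.mul_sum]
      congr 1
      refine Fintype.sum_equiv (Equiv.mulLeft (⟨g, hg⟩ : H)⁻¹) _ _ fun h => ?_
      rw [Equiv.coe_mulLeft, Subgroup.coe_mul, Subgroup.coe_inv, ← mul_assoc (τ g), ← mul_assoc (τ g),
        ← map_mul, mul_inv_cancel_left, mul_assoc (τ (h : G) * π₀), ← map_mul]
      congr 2
      group
    have hle : Subgroup.zpowers x ⊔ H ≤ C := sup_le (Subgroup.zpowers_le.2 hxC) hHC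
    exact hle (hHgen n hn)
  have hπU : Commute π U := by
    refine (Commute.sub_right ?_ (Commute.one_right π))
    exact hπN x hxN
  have hππ : π * π = π := LinearMap.ext fun v => hπS _ (hπim v)
  -- the trace of the projection
  set f := cosetTrace τ τ N π with hf
  have hfix : ∀ g : G, g⁻¹ * x * g ∈ N → g ∈ N := fun g => mem_normalizer_of_conj_mem hsq hx
  have hfτ : ∀ g : G, Commute (τ g) f := fun g => (cosetTrace_comp hπN g).symm
  have hUp1 : U ^ (p - 1) = 0 := pow_eq_zero_of_le (by omega) hUp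
  have hfU : Commute f U := ((hfτ x).symm.sub_right (Commute.one_right f))
  have hD : IsLowering U (f - π) :=
    ⟨hfU.sub_left hπU, fun j w hw => by
      rw [LinearMap.sub_apply]; exact cosetTrace_lowering hπN hx hxN hfix hUp1 j w hw⟩
  obtain ⟨e, hee, hecomm, hefix, hinj1, hinj2⟩ := exists_idempotent hUp hfU hπU hππ hD
  have heτ : ∀ g, Commute (τ g) e := fun g => hecomm _ (hfτ g)
  have heU : Commute U e := ((heτ x).sub_left (Commute.one_left e))
  have hey : e y = y := hefix y (by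
    have h0 := hD.2 0 y (by rw [zero_add, pow_one]; exact hUy)
    rw [pow_zero, Module.End.one_apply, LinearMap.sub_apply, hπS y hmy, sub_eq_zero] at h0
    exact h0)
  have hmaps : ∀ v ∈ S, (π * e) v ∈ S := fun v _ => hπim _
  have hsurj : Function.Surjective ((π * e).restrict hmaps) := by
    refine LinearMap.injective_iff_surjective.1 ((injective_iff_map_eq_zero _).2 fun v hv => ?_)
    have h1 : π (e (v : W)) = 0 := congrArg Subtype.val hv
    exact Subtype.ext (hinj2 _ (hπS _ v.2) (hinj1 _ (congrArg (fun φ : Module.End k W => φ v) hee) h1))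
  obtain ⟨s, hs⟩ := hsurj ⟨f₀, hmf⟩
  set m₀ := e (s : W) with hm₀
  have hπm₀ : π m₀ = f₀ := congrArg Subtype.val hs
  have hem₀ : e m₀ = m₀ := congrArg (fun φ : Module.End k W => φ (s : W)) hee
  have hem₁ : e (U m₀) = U m₀ := by rw [← Module.End.mul_apply, ← heU.eq, Module.End.mul_apply, hem₀]
  have huniq : ∀ {a b : W}, e a = a → e b = b → π a = π b → a = b := fun ha hb h =>
    sub_eq_zero.1 (hinj1 _ (by rw [map_sub, ha, hb]) (by rw [map_sub, h, sub_self]))
  have hπm₁ : π (U m₀) = U f₀ := by rw [← Module.End.mul_apply, hπU.eq, Module.End.mul_apply, hπm₀]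
  have hm₂ : U (U m₀) = y := by
    refine huniq (by rw [← Module.End.mul_apply e, ← heU.eq, Module.End.mul_apply, hem₁]) hey ?_
    rw [← Module.End.mul_apply π, hπU.eq, Module.End.mul_apply, hπm₁, hπS y hmy, ← Module.End.mul_apply,
      ← pow_two, hf₀2]
  -- coordinates
  let J : (Fin 3 → k) →ₗ[k] W :=
    (LinearMap.proj 0).smulRight m₀ + (LinearMap.proj 1).smulRight (U m₀) + (LinearMap.proj 2).smulRight y
  have hJ : ∀ a, J a = a 0 • m₀ + a 1 • U m₀ + a 2 • y := fun a => rfl
  have hJe : ∀ a, e (J a) = J a := fun a => by simp [hJ, hem₀, hem₁, hey]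
  have hJinj : Function.Injective J := (injective_iff_map_eq_zero J).2 fun a ha => by
    have h2 := congrArg (⇑(U ^ 2)) ha
    have e1 : (U ^ 2) m₀ = y := by rw [pow_two, Module.End.mul_apply, hm₂]
    have e2 : (U ^ 2) (U m₀) = 0 := by rw [← Module.End.mul_apply, ← pow_succ, pow_succ', Module.End.mul_apply, e1, hUy]
    rw [hJ, map_add, map_add, map_smul, map_smul, map_smul, e1, e2, hU3y 2 one_le_two, smul_zero, smul_zero,
      add_zero, add_zero, map_zero] at h2
    have a0 : a 0 = 0 := (smul_eq_zero.1 h2).resolve_right hy0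
    have h1 := congrArg U ha
    rw [hJ, a0, zero_smul, zero_add, map_add, map_smul, map_smul, hm₂, hUy, smul_zero, add_zero, map_zero] at h1
    have a1 : a 1 = 0 := (smul_eq_zero.1 h1).resolve_right hy0
    rw [hJ, a0, a1, zero_smul, zero_smul, zero_add, zero_add] at ha
    ext i; fin_cases i
    exacts [a0, a1, (smul_eq_zero.1 ha).resolve_right hy0]
  have hJsurj : ∀ w, e w = w → ∃ a, J a = w := by
    intro w hw
    obtain ⟨α, z, hz, hαz⟩ := Submodule.mem_span_insert.1 (hπim w)
    obtain ⟨β, γ, rfl⟩ := Submodule.mem_span_pair.1 hz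
    refine ⟨![α, β, γ], huniq (hJe _) hw ?_⟩
    rw [hαz, hJ, map_add, map_add, map_smul, map_smul, map_smul, hπm₀, hπm₁, hπS y hmy, add_assoc]
    rfl
  obtain ⟨r, hr⟩ := J.exists_leftInverse_of_injective (LinearMap.ker_eq_bot.2 hJinj)
  have hrJ : ∀ a, r (J a) = a := fun a => congrArg (fun φ : (Fin 3 → k) →ₗ[k] Fin 3 → k => φ a) hr
  have hJr : ∀ w, e w = w → J (r w) = w := fun w hw => by
    obtain ⟨a, rfl⟩ := hJsurj w hw
    rw [hrJ]
  have hstab : ∀ g a, e (τ g (J a)) = τ g (J a) := fun g a => by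
    rw [← Module.End.mul_apply, ← (heτ g).eq, Module.End.mul_apply, hJe]
  let σ : G →* Module.End k (Fin 3 → k) :=
    { toFun := fun g => r ∘ₗ τ g ∘ₗ J
      map_one' := LinearMap.ext fun a => by simp [hrJ]
      map_mul' := fun g h => LinearMap.ext fun a => by
        show r (τ (g * h) (J a)) = r (τ g (J (r (τ h (J a)))))
        rw [hJr _ (hstab h a), map_mul, Module.End.mul_apply] }
  have hJσ : ∀ g a, J (σ g a) = τ g (J a) := fun g a => hJr _ (hstab g a)
  let E0 : Fin 3 → k := ![1, 0, 0]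
  let E2 : Fin 3 → k := ![0, 0, 1]
  have hJE0 : J E0 = m₀ := by simp [hJ, E0]
  have hJE2 : J E2 = y := by simp [hJ, E2]
  have hσx : ∀ a, σ x a = ![a 0, a 0 + a 1, a 1 + a 2] := fun a => by
    apply hJinj
    rw [hJσ, hX, hJ, hJ, map_add, map_add, map_smul, map_smul, map_smul, hm₂, hUy, smul_zero, add_zero]
    simp only [Matrix.cons_val_zero, Matrix.cons_val_one, Matrix.cons_val_two, Matrix.tail_cons, Matrix.head_cons, add_smul]
    abel
  have hσyn : ∀ h : H, σ (h : G) E2 = c h • E2 := fun h => hJinj (by rw [hJσ, map_smul, hJE2, hy])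
  have hσfn : ∀ h : H, σ (h : G) E0 = (c h)⁻¹ • E0 := fun h => hJinj (by
    rw [hJσ, map_smul, hJE0]
    refine huniq (by rw [← hJE0]; exact hstab _ _) (by rw [map_smul, hem₀]) ?_
    have hn := congrArg (fun φ : W →ₗ[k] W => φ m₀) (hπN _ (hHN h.2))
    simp only [LinearMap.comp_apply] at hn
    rw [hn, hπm₀, hf₀h, map_smul, hπm₀])
  -- a form invariant under the normalizer
  have h2 : (2 : k) ≠ 0 := fun h => by
    have := (CharP.cast_eq_zero_iff k p 2).1 (by simpa using h)
    have := Nat.le_of_dvd (by norm_num) this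
    omega
  let β₁ : LinearMap.BilinForm k (Fin 3 → k) :=
    LinearMap.mk₂ k (fun a b => a 0 * b 2 + a 2 * b 0 - a 1 * b 1 + 2⁻¹ * (a 0 * b 1 + a 1 * b 0))
      (fun a a' b => by simp only [Pi.add_apply]; ring) (fun r a b => by simp only [Pi.smul_apply, smul_eq_mul]; ring)
      (fun a b b' => by simp only [Pi.add_apply]; ring) (fun r a b => by simp only [Pi.smul_apply, smul_eq_mul]; ring)
  have hβ₁ : ∀ a b, β₁ a b = a 0 * b 2 + a 2 * b 0 - a 1 * b 1 + 2⁻¹ * (a 0 * b 1 + a 1 * b 0) := fun a b => rfl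
  have hβ₁x : ∀ a b, β₁ (σ x a) (σ x b) = β₁ a b := fun a b => by
    simp only [hβ₁, hσx, Matrix.cons_val_zero, Matrix.cons_val_one, Matrix.cons_val_two, Matrix.tail_cons, Matrix.head_cons]
    field_simp
    ring
  let β₀ : LinearMap.BilinForm k (Fin 3 → k) := cH⁻¹ • ∑ h : H, β₁.compl₁₂ (σ (h : G)) (σ (h : G))
  have hβ₀ : ∀ a b, β₀ a b = cH⁻¹ * ∑ h : H, β₁ (σ (h : G) a) (σ (h : G) b) := fun a b => by
    simp [β₀, LinearMap.sum_apply]
  have hβ₀N : ∀ n ∈ N, ∀ a b, β₀ (σ n a) (σ n b) = β₀ a b := by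
    let C : Subgroup G :=
      { carrier := {g | ∀ a b, β₀ (σ g a) (σ g b) = β₀ a b}
        one_mem' := by simp
        mul_mem' := fun {g h} hg hh a b => by rw [map_mul, Module.End.mul_apply, Module.End.mul_apply, hg, hh]
        inv_mem' := fun {g} hg a b => by
          rw [← hg (σ g⁻¹ a) (σ g⁻¹ b)]
          simp only [← Module.End.mul_apply, ← map_mul, mul_inv_cancel, map_one, Module.End.one_apply] }
    have hxC : x ∈ C := fun a b => by
      have hpowx : ∀ n : ℕ, ∀ a b, β₁ (σ (x ^ n) a) (σ (x ^ n) b) = β₁ a b := fun n => by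
        induction n with
        | zero => simp
        | succ n ih => intro a b; rw [pow_succ', map_mul, Module.End.mul_apply, Module.End.mul_apply, hβ₁x, ih]
      rw [hβ₀, hβ₀]
      congr 1
      refine Finset.sum_congr rfl fun h _ => ?_
      simp only [← Module.End.mul_apply, ← map_mul, hb h]
      simp only [map_mul, Module.End.mul_apply, hpowx]
    have hHC : H ≤ C := fun g hg a b => by
      rw [hβ₀, hβ₀]
      congr 1
      refine Fintype.sum_equiv (Equiv.mulRight (⟨g, hg⟩ : H)) _ _ fun h => ?_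
      simp only [Equiv.coe_mulRight, Subgroup.coe_mul, map_mul, Module.End.mul_apply]
    have hle : Subgroup.zpowers x ⊔ H ≤ C := sup_le (Subgroup.zpowers_le.2 hxC) hHC
    exact fun n hn => hle (hHgen n hn)
  have hβ₀y : β₀ E2 E2 = 0 := by simp [hβ₀, hσyn, hβ₁, E2]
  have hβ₀f : β₀ E2 E0 = 1 := by
    simp only [hβ₀, hσyn, hσfn, map_smul, LinearMap.smul_apply, smul_eq_mul]
    rw [Finset.sum_congr rfl fun h _ => show (c h)⁻¹ * (c h * β₁ E2 E0) = 1 by
      rw [← mul_assoc, inv_mul_cancel₀ (hc0 h), one_mul]; simp [hβ₁, E0, E2]]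
    simp [← hcH, hcH0]
  have hβ₀sym : ∀ a b, β₀ a b = β₀ b a := fun a b => by
    rw [hβ₀, hβ₀]
    congr 1
    refine Finset.sum_congr rfl fun h _ => ?_
    simp only [hβ₁]
    ring
  -- the invariant form
  let ρ' : G →* Module.End k (Module.Dual k (Fin 3 → k)) :=
    { toFun := fun g => (σ g⁻¹).dualMap
      map_one' := LinearMap.ext fun l => LinearMap.ext fun a => by simp
      map_mul' := fun g h => LinearMap.ext fun l => LinearMap.ext fun a => by
        simp [Module.End.mul_apply, LinearMap.dualMap_apply] }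
  have hρ' : ∀ g l a, ρ' g l a = l (σ g⁻¹ a) := fun g l a => rfl
  have hφN : ∀ n ∈ N, β₀ ∘ₗ σ n = ρ' n ∘ₗ β₀ := by
    intro n hn
    refine LinearMap.ext fun a => LinearMap.ext fun b => ?_
    show β₀ (σ n a) b = β₀ a (σ n⁻¹ b)
    rw [← hβ₀N n hn a (σ n⁻¹ b), ← Module.End.mul_apply (σ n) (σ n⁻¹), ← map_mul, mul_inv_cancel, map_one,
      Module.End.one_apply]
  have hVx : (σ x - 1) ^ 3 = 0 := by
    refine LinearMap.ext fun a => ?_
    simp only [pow_succ, pow_zero, one_mul, Module.End.mul_apply, LinearMap.sub_apply, Module.End.one_apply,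
      map_sub, hσx, LinearMap.zero_apply]
    ext i; fin_cases i <;> simp [Matrix.vecHead, Matrix.vecTail] <;> ring
  have hρx : (ρ' x - 1) ^ (p - 1) = 0 := by
    have h3 : (σ x⁻¹ - 1) ^ 3 = 0 := by
      have e : σ x⁻¹ - 1 = (σ x⁻¹) * (1 - σ x) := by
        rw [mul_sub, mul_one, ← map_mul, inv_mul_cancel, map_one]
      have hc : Commute (σ x⁻¹) (1 - σ x) :=
        (Commute.one_right _).sub_right (Commute.map (Commute.inv_left (Commute.refl x)) σ)
      have hVx' : (1 - σ x) ^ 3 = 0 := by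
        refine LinearMap.ext fun a => ?_
        simp only [pow_succ, pow_zero, one_mul, Module.End.mul_apply, LinearMap.sub_apply, Module.End.one_apply,
          map_sub, hσx, LinearMap.zero_apply]
        ext i; fin_cases i <;> simp [Matrix.vecHead, Matrix.vecTail] <;> ring
      rw [e, hc.mul_pow, hVx', mul_zero]
    refine pow_eq_zero_of_le (show 3 ≤ p - 1 by omega) ?_
    refine LinearMap.ext fun l => LinearMap.ext fun a => ?_
    have e : ∀ (n : ℕ) l a, (((ρ' x - 1) ^ n) l) a = l (((σ x⁻¹ - 1) ^ n) a) := fun n => by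
      induction n with
      | zero => simp
      | succ n ih => intro l a; rw [pow_succ, Module.End.mul_apply, ih, pow_succ', Module.End.mul_apply]; simp [hρ', map_sub]
    rw [e, h3]; simp
  set Bf := cosetTrace σ ρ' N β₀ with hBf
  have hBcomp : ∀ g a, Bf (σ g a) = ρ' g (Bf a) := fun g a =>
    congrArg (fun φ : (Fin 3 → k) →ₗ[k] Module.Dual k (Fin 3 → k) => φ a) (cosetTrace_comp hφN g)
  have hBy : Bf E2 = β₀ E2 := by
    have h0 := cosetTrace_lowering hφN hx hxN hfix hρx 0 E2 (by
      rw [zero_add, pow_one, LinearMap.sub_apply, Module.End.one_apply, hσx]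
      ext i; fin_cases i <;> simp [E2])
    rw [pow_zero, Module.End.one_apply, sub_eq_zero] at h0
    exact h0
  refine ⟨σ, E2, Bf, fun h => one_ne_zero (congrFun h 2 : (1 : k) = 0), ?_, ?_, ?_, ?_, ?_, ?_, ?_⟩
  · rw [hσx]; ext i; fin_cases i <;> simp [E2]
  · rw [hBy, hβ₀y]
  · intro h
    have := congrFun ((hσx E0).symm.trans (congrArg (fun φ : Module.End k (Fin 3 → k) => φ E0) h)) 1
    simp [E0] at this
  · intro g d hg
    have := congrArg J hg
    rwa [hJσ, map_smul, hJE2] at this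
  · intro a b
    have hmem := cosetTrace_mem (ρ := σ) (ρ' := ρ') (N := N) (φ := β₀)
      (S := { carrier := {φ | ∀ a b, φ a b = φ b a}
              add_mem' := fun {φ ψ} h h' a b => by simp [h a b, h' a b]
              zero_mem' := fun a b => rfl
              smul_mem' := fun r φ h a b => by simp [h a b] })
      (fun g a b => by show β₀ (σ g⁻¹ a) (σ g⁻¹ b) = β₀ (σ g⁻¹ b) (σ g⁻¹ a); exact hβ₀sym _ _)
    exact hmem a b
  · intro a ha
    have hBa : Bf a = 0 := LinearMap.ext ha
    have hBU : ∀ a, Bf a = 0 → Bf (σ x a - a) = 0 := fun a h => by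
      rw [map_sub, hBcomp, h, map_zero, sub_zero]
    have hE : ∀ t : k, Bf (t • E2) = 0 → t = 0 := fun t ht => by
      rw [map_smul, hBy] at ht
      have := congrArg (fun l : Module.Dual k (Fin 3 → k) => l E0) ht
      simpa [hβ₀f] using this
    have h1 := hBU a hBa
    have h2 := hBU _ h1
    have e2 : σ x (σ x a - a) - (σ x a - a) = a 0 • E2 := by
      simp only [hσx]; ext i; fin_cases i <;> simp [E2, Matrix.vecHead, Matrix.vecTail] <;> ring
    rw [e2] at h2
    have a0 := hE _ h2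
    have e1 : σ x a - a = a 1 • E2 := by simp only [hσx]; ext i; fin_cases i <;> simp [E2, a0]
    rw [e1] at h1
    have a1 := hE _ h1
    have e0 : a = a 2 • E2 := by ext i; fin_cases i <;> simp [E2, a0, a1]
    rw [e0] at hBa ⊢
    rw [hE _ hBa, zero_smul]
  · intro g a b
    rw [hBcomp, hρ', ← Module.End.mul_apply (σ g⁻¹), ← map_mul, inv_mul_cancel, map_one, Module.End.one_apply]

end CfsgLib.Char.HalfDegree
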