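import Cfsg.Agent.Lib.Char.HalfDegree.UnipotentLog
import Cfsg.Agent.Lib.Char.HalfDegree.ThreeDim
import Cfsg.Agent.Lib.Char.HalfDegree.Conic
import Cfsg.Agent.Lib.Char.HalfDegree.MobCase
import Cfsg.Agent.Lib.Char.HalfDegree.Eigen
import Cfsg.Agent.Lib.Char.HalfDegree.ModEmbed
import Cfsg.Agent.Lib.Classical.PSLTwoSimple
import Cfsg.Agent.Lib.ZStar.PrincipalBlock

/-!
# Groups with a faithful character of degree `(p - 1) / 2`
-/

set_option autoImplicit false
set_option maxHeartbeats 800000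

universe u

namespace CfsgLib.Char.HalfDegree

open Cfsg Matrix CfsgLib.Classical.Dickson

/-- A modular representation of degree at most `(p - 1) / 2` gives a quotient `PSL(2, p)` or
`PGL(2, p)` by a normal subgroup centralizing the elements of order `p`. -/
theorem exists_quotient {G : Type u} [Group G] [Finite G] {p : ℕ} [Fact p.Prime]
    (hsq : ¬ p ^ 2 ∣ Nat.card G) {x : G} (hx : orderOf x = p)
    (hnn : ∃ g : G, g ∉ Subgroup.normalizer (Subgroup.zpowers x : Set G))
    {k : Type*} [Field k] [IsAlgClosed k] [CharP k p] {m : ℕ} (hm : 2 * m + 1 ≤ p)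
    (ρ : G →* Module.End k (Fin m → k)) (hρ : Function.Injective ρ) :
    5 ≤ p ∧ ∃ K : Subgroup G, K.Normal ∧ x ∉ K ∧ (∀ h ∈ K, ∀ g : G, Commute h (g * x * g⁻¹)) ∧
      ((∃ ψ : G →* ProjectiveSpecialLinearGroup (Fin 2) (ZMod p), Function.Surjective ψ ∧ ψ.ker = K) ∨
        (∃ ψ : G →* ProjGenLinGroup (Fin 2) (ZMod p), Function.Surjective ψ ∧ ψ.ker = K)) := by
  classical
  have hp : p.Prime := Fact.out
  have hxp : x ^ p = 1 := hx ▸ pow_orderOf_eq_one x
  have hx1 : x ≠ 1 := fun h => hp.ne_one (by rw [← hx, h, orderOf_one])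
  have hρx : ρ x ≠ 1 := fun h => hx1 (hρ (by rw [h, map_one]))
  have hρp : ρ x ^ p = 1 := by rw [← map_pow, hxp, map_one]
  have hp5 : 5 ≤ p := by
    by_contra hlt
    have hm1 : m ≤ 1 := by omega
    haveI : Nontrivial (Module.End k (Fin m → k)) := ⟨ρ x, 1, hρx⟩
    haveI : CharP (Module.End k (Fin m → k)) p :=
      charP_of_injective_algebraMap (FaithfulSMul.algebraMap_injective k (Module.End k (Fin m → k))) p
    have hnil : IsNilpotent (ρ x - 1) :=
      ⟨p, by rw [sub_pow_char_of_commute p (Commute.one_right (ρ x)), hρp, one_pow, sub_self]⟩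
    have h0 := LinearMap.aeval_self_charpoly (ρ x - 1)
    rw [hnil.charpoly_eq_X_pow_finrank, Module.finrank_fin_fun, map_pow, Polynomial.aeval_X] at h0
    exact hρx (sub_eq_zero.1 (by simpa using pow_eq_zero_of_le hm1 h0))
  set N := Subgroup.normalizer (Subgroup.zpowers x : Set G) with hN
  let τ : G →* Module.End k (Module.End k (Fin m → k)) :=
    { toFun := fun g => conjMap (ρ g) (ρ g⁻¹)
      map_one' := LinearMap.ext fun w => by simp [conjMap_apply]
      map_mul' := fun g h => LinearMap.ext fun w => by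
        simp [conjMap_apply, mul_assoc] }
  have hτ : ∀ g w, τ g w = ρ g * w * ρ g⁻¹ := fun g w => conjMap_apply _ _ _
  set y := logEl k p (ρ x) with hy
  obtain ⟨hUp, hUy, hw0, hnot, hcom⟩ := conj_data (p := p) (by rw [Module.finrank_fin_fun]; exact hm)
    (x := ρ x) (x' := ρ x⁻¹) (by rw [← map_mul, mul_inv_cancel, map_one]) hρp hρx
  have hy0 : y ≠ 0 := fun h => hnot 0 (by rw [map_zero]; exact h.symm)
  have heig : ∀ (g : G) (b : ZMod p), b ≠ 0 → g * x = x ^ b.val * g →
      τ g y = ZMod.castHom (dvd_refl p) k b • y := fun g b hb h => by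
    have h1 := mul_logEl (k := k) (z := ρ g) hρp hb (by rw [← map_mul, h, map_mul, map_pow])
    rw [hτ, h1, smul_mul_assoc, mul_assoc, ← map_mul, mul_inv_cancel, map_one, mul_one]
  obtain ⟨σ, v, B, hv0, hσv, hvv, hσx, hσy, hsym, hnd, hinv⟩ :=
    exists_three_dim hp5 hsq hx τ hy0 hUy hw0 hnot hUp heig
  have h2 : (2 : k) ≠ 0 := fun h => by
    have := Nat.le_of_dvd (by norm_num) ((CharP.cast_eq_zero_iff k p 2).1 (by simpa using h))
    omega
  obtain ⟨φ, hφ⟩ := exists_mob_hom h2 σ B hsym hnd hinv hv0 hvv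
  have hcentral : ∀ g c : G, Commute c x → c = g * x * g⁻¹ → g ∈ N := fun g c hc he => by
    have hcN : c ∈ N := fun n => by
      constructor
      · rintro ⟨i, rfl⟩
        exact ⟨i, by rw [(hc.zpow_right i).eq, mul_inv_cancel_right]⟩
      · rintro ⟨i, hi⟩
        refine ⟨i, ?_⟩
        have h1 : n = c⁻¹ * (c * n * c⁻¹) * c := by group
        show x ^ i = n
        rw [h1, ← show x ^ i = c * n * c⁻¹ from hi, mul_assoc, ← (hc.zpow_right i).eq, inv_mul_cancel_left]
    have h := mem_normalizer_of_conj_mem hsq hx (g := g⁻¹) (by rw [inv_inv, ← he]; exact hcN)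
    exact inv_inv g ▸ Subgroup.inv_mem _ h
  -- minus the identity is not in the image
  have hneg : ∀ g, σ g ≠ -1 := by
    intro g hg
    have hgy : τ g y = (-1 : k) • y := hσy g (-1) (by rw [hg]; simp)
    have hanti : ρ g * y = (-1 : k) • (y * ρ g) := by
      have e := congrArg (fun z => z * ρ g) hgy
      simp only [hτ, mul_assoc, ← map_mul, inv_mul_cancel, map_one, mul_one, smul_mul_assoc] at e
      exact e
    have hanti' : ρ g⁻¹ * y = (-1 : k) • (y * ρ g⁻¹) := by
      have e : y * ρ g⁻¹ = (-1 : k) • (ρ g⁻¹ * y) := by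
        calc y * ρ g⁻¹ = ρ g⁻¹ * (ρ g * y) * ρ g⁻¹ := by
              rw [← mul_assoc (ρ g⁻¹), ← map_mul, inv_mul_cancel, map_one, one_mul]
          _ = (-1 : k) • (ρ g⁻¹ * y) := by
              rw [hanti, mul_smul_comm, smul_mul_assoc, mul_assoc, mul_assoc y, ← map_mul ρ g g⁻¹,
                mul_inv_cancel, map_one, mul_one]
      rw [e, smul_smul, show (-1 : k) * -1 = 1 by ring, one_smul]
    have hxy : ρ x * y = y * ρ x := by
      have e : ρ x * y * ρ x⁻¹ - y = 0 := by
        have := hUy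
        rw [LinearMap.sub_apply, conjMap_apply, Module.End.one_apply] at this
        exact this
      rw [sub_eq_zero] at e
      have e' := congrArg (fun z => z * ρ x) e
      simpa [mul_assoc, ← map_mul] using e'
    have hzy : Commute (ρ (g * x * g⁻¹)) y := by
      show ρ (g * x * g⁻¹) * y = y * ρ (g * x * g⁻¹)
      rw [map_mul, map_mul, mul_assoc, hanti', mul_smul_comm, mul_assoc (ρ g) (ρ x), ← mul_assoc (ρ x) y, hxy,
        mul_assoc y, ← mul_assoc (ρ g) y, hanti, smul_mul_assoc, smul_smul, show (-1 : k) * -1 = 1 by ring,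
        one_smul]
      simp only [mul_assoc]
    have hc : Commute (g * x * g⁻¹) x := hρ (by
      rw [map_mul ρ (g * x * g⁻¹) x, map_mul ρ x (g * x * g⁻¹)]
      exact (hcom _ hzy).eq)
    obtain ⟨b, hb0, hb⟩ := exists_exponent hx (hcentral g _ hc rfl)
    have hb1 : b = -1 := (ZMod.castHom (dvd_refl p) k).injective
      (smul_left_injective k hy0 (show _ • y = ((ZMod.castHom (dvd_refl p) k) (-1)) • y by
        rw [← heig g b hb0 hb, hgy, map_neg, map_one]))
    have hxinv : σ x = (σ x) ^ b.val := by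
      have e := congrArg σ hb
      rw [map_mul, map_mul, map_pow, hg] at e
      have e' : -σ x = -((σ x) ^ b.val) := by
        refine LinearMap.ext fun a => ?_
        have := congrArg (fun f : Module.End k (Fin 3 → k) => f a) e
        simpa using this
      exact neg_injective e'
    have hsq1 : σ x ^ 2 = 1 := by
      have hσp : σ x ^ p = 1 := by rw [← map_pow, hxp, map_one]
      have hbv : (b.val + 1) % p = 0 := by
        have : ((b.val + 1 : ℕ) : ZMod p) = 0 := by rw [Nat.cast_add, Nat.cast_one, ZMod.natCast_zmod_val, hb1, neg_add_cancel]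
        rwa [ZMod.natCast_eq_zero_iff, Nat.dvd_iff_mod_eq_zero] at this
      calc σ x ^ 2 = σ x ^ b.val * σ x := by rw [← hxinv, pow_two]
        _ = σ x ^ (b.val + 1) := (pow_succ _ _).symm
        _ = 1 := by rw [pow_eq_pow_mod _ hσp, hbv, pow_zero]
    refine hσx ?_
    have hσp : σ x ^ p = 1 := by rw [← map_pow, hxp, map_one]
    obtain ⟨j, hj⟩ := hp.odd_of_ne_two (by omega)
    rwa [hj, pow_succ, pow_mul, hsq1, one_pow, one_mul] at hσp
  have hker : ∀ g, φ g = 1 ↔ σ g = 1 := fun g => (hφ g).trans ⟨fun h => h.resolve_right (hneg g), Or.inl⟩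
  have hxK : x ∉ φ.ker := fun h => hσx ((hker x).1 h)
  have hcomx : ∀ h ∈ φ.ker, Commute h x := fun h hh => by
    have hy' : τ h y = (1 : k) • y := hσy h 1 (by rw [(hker h).1 hh, Module.End.one_apply, one_smul])
    rw [one_smul, hτ] at hy'
    have h1 : Commute (ρ h) y := by
      show ρ h * y = y * ρ h
      have e := congrArg (fun z => z * ρ h) hy'
      simpa [mul_assoc, ← map_mul] using e
    exact hρ (by rw [map_mul, map_mul]; exact (hcom _ h1).eq)
  have hcomm : ∀ h ∈ φ.ker, ∀ g : G, Commute h (g * x * g⁻¹) := fun h hh g => by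
    have h1 := hcomx _ ((inferInstance : φ.ker.Normal).conj_mem h hh g⁻¹)
    have h2 := congrArg (fun z => g * z * g⁻¹) h1.eq
    show h * (g * x * g⁻¹) = g * x * g⁻¹ * h
    simpa [mul_assoc] using h2
  -- the image has two Sylow subgroups
  obtain ⟨g₀, hg₀⟩ := hnn
  have hordφ : ∀ g, orderOf (φ.rangeRestrict (g * x * g⁻¹)) = p := fun g => by
    refine orderOf_eq_prime ?_ ?_
    · rw [← map_pow, conj_pow, hxp, mul_one, mul_inv_cancel, map_one]
    · intro h
      have h' : g * x * g⁻¹ ∈ φ.ker := congrArg Subtype.val h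
      have := (inferInstance : φ.ker.Normal).conj_mem _ h' g⁻¹
      exact hxK (by simpa [mul_assoc] using this)
  have hsqφ : ¬ p ^ 2 ∣ Nat.card φ.range := fun h => hsq (h.trans (Subgroup.card_range_dvd φ))
  have hab : φ.rangeRestrict (g₀ * x * g₀⁻¹) ∉ Subgroup.zpowers (φ.rangeRestrict (1 * x * 1⁻¹)) := by
    rintro ⟨i, hi⟩
    rw [one_mul, inv_one, mul_one] at hi
    have hi' : φ (x ^ i) = φ (g₀ * x * g₀⁻¹) := by
      have := congrArg Subtype.val hi
      simpa [Subgroup.coe_zpow] using this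
    have hk : (x ^ i)⁻¹ * (g₀ * x * g₀⁻¹) ∈ φ.ker := by rw [MonoidHom.mem_ker, map_mul, map_inv, hi', inv_mul_cancel]
    refine hg₀ (hcentral g₀ _ ?_ rfl)
    have := ((Commute.refl x).zpow_left i).mul_left (hcomx _ hk)
    rwa [mul_inv_cancel_left] at this
  haveI : Finite φ.range := Finite.of_surjective _ φ.rangeRestrict_surjective
  refine ⟨hp5, φ.ker, inferInstance, hxK, hcomm, ?_⟩
  rcases mob_cases hp5 φ.range hsqφ (hordφ 1) (hordφ g₀) hab with ⟨⟨e⟩⟩ | ⟨⟨e⟩⟩
  · refine Or.inl ⟨e.toMonoidHom.comp φ.rangeRestrict, e.surjective.comp φ.rangeRestrict_surjective, ?_⟩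
    exact (MonoidHom.ker_mulEquiv_comp φ.rangeRestrict e).trans φ.ker_rangeRestrict
  · refine Or.inr ⟨e.toMonoidHom.comp φ.rangeRestrict, e.surjective.comp φ.rangeRestrict_surjective, ?_⟩
    exact (MonoidHom.ker_mulEquiv_comp φ.rangeRestrict e).trans φ.ker_rangeRestrict

/-- Lifting a conjugation from the quotient. -/
theorem lift_conj {G Q : Type*} [Group G] [Finite G] [Group Q] {p : ℕ} [Fact p.Prime]
    (hsq : ¬ p ^ 2 ∣ Nat.card G) {x : G} (hx : orderOf x = p) (ψ : G →* Q) (hxK : x ∉ ψ.ker)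
    (hcomm : ∀ h ∈ ψ.ker, Commute h x) {n : G} {b : ZMod p} (h : ψ n * ψ x = ψ x ^ b.val * ψ n) :
    n * x = x ^ b.val * n := by
  set c := n * x * n⁻¹ with hc
  have hk : (x ^ b.val)⁻¹ * c ∈ ψ.ker := by
    rw [MonoidHom.mem_ker, hc, map_mul, map_inv, map_pow, map_mul, map_mul, map_inv, h]
    group
  have hcx : Commute c x := by
    have := ((Commute.refl x).pow_left b.val).mul_left (hcomm _ hk)
    rwa [mul_inv_cancel_left] at this
  have hcp : c ^ p = 1 := by rw [hc, conj_pow, ← hx, pow_orderOf_eq_one, mul_one, mul_inv_cancel]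
  have hcN : c ∈ Subgroup.normalizer (Subgroup.zpowers x : Set G) := fun z => by
    constructor
    · rintro ⟨i, rfl⟩
      exact ⟨i, by rw [(hcx.zpow_right i).eq, mul_inv_cancel_right]⟩
    · rintro ⟨i, hi⟩
      refine ⟨i, ?_⟩
      have h1 : z = c⁻¹ * (c * z * c⁻¹) * c := by group
      show x ^ i = z
      rw [h1, ← show x ^ i = c * z * c⁻¹ from hi, mul_assoc, ← (hcx.zpow_right i).eq, inv_mul_cancel_left]
  obtain ⟨i, hi⟩ := mem_zpowers_of_normalizes hsq hx hcN hcp
  have he : (x ^ b.val)⁻¹ * c = 1 := by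
    have hz : (x ^ b.val)⁻¹ * c ∈ Subgroup.zpowers x :=
      ⟨-(b.val : ℤ) + i, by show x ^ (-(b.val : ℤ) + i) = _; rw [_root_.zpow_add, _root_.zpow_neg, zpow_natCast, show x ^ i = c from hi]⟩
    by_contra hne
    have hle : Subgroup.zpowers ((x ^ b.val)⁻¹ * c) ≤ Subgroup.zpowers x := Subgroup.zpowers_le.2 hz
    have hd := Subgroup.card_dvd_of_le hle
    rw [Nat.card_zpowers, Nat.card_zpowers, hx] at hd
    rcases (Nat.dvd_prime Fact.out).1 hd with h1 | h1
    · exact hne (orderOf_eq_one_iff.1 h1)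
    · have := Subgroup.eq_of_le_of_card_ge hle (by rw [Nat.card_zpowers, Nat.card_zpowers, hx, h1])
      exact hxK ((Subgroup.zpowers_le.2 hk) (this.symm ▸ Subgroup.mem_zpowers x))
  rw [inv_mul_eq_one, hc] at he
  rw [he]; group

/-- A faithful character of degree `(p - 1) / 2` forces `PSL(2, p)`. -/
theorem quotient_center {G : Type u} [Group G] [Finite G] (p : ℕ) (hp : p.Prime) (hdiv : p ∣ Nat.card G)
    (hsq : ¬ p ^ 2 ∣ Nat.card G) (hnn : ∀ H : Subgroup G, H.Normal → Nat.card H ≠ p) (χ : G → ℂ)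
    (hχ : Cfsg.IsCharacter G χ) (hfaith : ∀ g : G, χ g = χ 1 → g = 1) (hdeg : 2 * Cfsg.charDegree χ + 1 = p) :
    Nonempty ((G ⧸ Subgroup.center G) ≃* Matrix.ProjectiveSpecialLinearGroup (Fin 2) (ZMod p)) := by
  classical
  haveI : Fact p.Prime := ⟨hp⟩
  letI := Fintype.ofFinite G
  obtain ⟨d, ρ, rfl⟩ := hχ
  have hd : Cfsg.charDegree ρ.character = d := by
    simp [Cfsg.charDegree, Representation.char_one]
  rw [hd] at hdeg
  obtain ⟨x, hx⟩ := exists_prime_orderOf_dvd_card' p hdiv
  have hxp : x ^ p = 1 := hx ▸ pow_orderOf_eq_one x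
  have hO : ∀ K : Subgroup G, K.Normal → IsPGroup p K → K = ⊥ := by
    intro K hK hKp
    obtain ⟨n, hn⟩ := hKp.exists_card_eq
    rcases Nat.lt_or_ge n 2 with h | h
    · rcases Nat.eq_zero_or_pos n with rfl | h0
      · exact Subgroup.card_eq_one.1 (by rw [hn, pow_zero])
      · exact absurd (by rw [hn, show n = 1 by omega, pow_one]) (hnn K hK)
    · exact absurd ((pow_dvd_pow p h).trans (hn ▸ Subgroup.card_subgroup_dvd_card K)) hsq
  have hg₀ : ∃ g : G, g ∉ Subgroup.normalizer (Subgroup.zpowers x : Set G) := by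
    by_contra hall
    push Not at hall
    exact hnn (Subgroup.zpowers x) (Subgroup.normalizer_eq_top_iff.1 (eq_top_iff.2 fun g _ => hall g))
      (by rw [Nat.card_zpowers, hx])
  obtain ⟨M, hM⟩ := CfsgLib.ZStar.exists_isPModular hp
  haveI : M.IsMaximal := hM.2.1
  haveI := CfsgLib.Blocks.charP_residueField hM
  haveI : CharP (CfsgLib.Blocks.Res M) p := CfsgLib.Blocks.charP_residueField hM
  haveI : IsAlgClosed (CfsgLib.Blocks.Res M) := CfsgLib.Star.isAlgClosed_res
  obtain ⟨m, σ, hmd, hσ⟩ := exists_mod_embedding hM (by omega : d < p) ρ hfaith hO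
  obtain ⟨hp5, K, hKn, hxK, hKcomm, hψ⟩ := exists_quotient hsq hx hg₀ (by omega : 2 * m + 1 ≤ p) σ hσ
  have hKx : ∀ h ∈ K, Commute h x := fun h hh => by
    have := hKcomm h hh 1
    rwa [one_mul, inv_one, mul_one] at this
  have hρinj : ∀ a b : G, ρ a = ρ b → a = b := fun a b h => by
    have h1 : ρ (b⁻¹ * a) = 1 := by rw [map_mul, h, ← map_mul, inv_mul_cancel, map_one]
    have h2 := hfaith (b⁻¹ * a) (by simp only [Representation.character, h1, map_one])
    exact (inv_mul_eq_one.1 h2).symm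
  have hρx : ρ x ≠ 1 := fun h => by
    have := hρinj x 1 (by rw [h, map_one])
    rw [this, orderOf_one] at hx
    exact hp.ne_one hx.symm
  obtain ⟨v, hv⟩ : ∃ v, ρ x v ≠ v := by
    by_contra hcon; push Not at hcon; exact hρx (LinearMap.ext hcon)
  set Q₁ := Finset.univ.erase (0 : ZMod p) with hQ₁
  have hQ₁c : Q₁.card = p - 1 := by rw [hQ₁, Finset.card_erase_of_mem (Finset.mem_univ _), Finset.card_univ, ZMod.card]
  rcases hψ with ⟨ψ, hsurj, hker⟩ | ⟨ψ, hsurj, hker⟩
  swap
  · exfalso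
    have hord : orderOf (ψ x) = p := orderOf_eq_prime (by rw [← map_pow, hxp, map_one])
      (fun h => hxK (hker ▸ (MonoidHom.mem_ker.2 h)))
    have hb := (le_finrank_of_orbit ρ hxp ⊤ (fun _ _ => Submodule.mem_top) Submodule.mem_top hv Q₁ fun a ha => by
      obtain ⟨n', hn'⟩ := pgl_conj (by omega) hord (Finset.ne_of_mem_erase ha)
      obtain ⟨n, rfl⟩ := hsurj n'
      exact ⟨Finset.ne_of_mem_erase ha, n, lift_conj hsq hx ψ (hker ▸ hxK) (fun h hh => hKx h (hker ▸ hh)) hn',
        fun _ _ => Submodule.mem_top⟩).1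
    rw [hQ₁c, finrank_top, Module.finrank_fin_fun] at hb
    omega
  -- the normal closure of `x`
  set G₀ := Subgroup.normalClosure ({x} : Set G) with hG₀
  have hxG₀ : x ∈ G₀ := Subgroup.subset_normalClosure rfl
  haveI := CfsgLib.Classical.isSimpleGroup_PSL_two (F := ZMod p) (by rw [ZMod.card]; omega)
  have hord : orderOf (ψ x) = p := orderOf_eq_prime (by rw [← map_pow, hxp, map_one])
    (fun h => hxK (hker ▸ (MonoidHom.mem_ker.2 h)))
  have hmap : G₀.map ψ = ⊤ := by
    rcases ((inferInstance : G₀.Normal).map ψ hsurj).eq_bot_or_eq_top with h | h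
    · exfalso
      have := Subgroup.mem_map_of_mem ψ hxG₀
      rw [h, Subgroup.mem_bot] at this
      rw [this, orderOf_one] at hord
      exact hp.ne_one hord.symm
    · exact h
  set Q := Q₁.image (fun a => a * a) with hQ
  have hQc : d ≤ Q.card := by
    have hfib : Q₁.card ≤ 2 * Q.card := by
      refine Finset.card_le_mul_card_image Q₁ 2 fun b hb => ?_
      obtain ⟨a, -, rfl⟩ := Finset.mem_image.1 hb
      refine le_trans (Finset.card_le_card (t := ({a, -a} : Finset (ZMod p))) fun z hz => ?_) Finset.card_le_two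
      have := (Finset.mem_filter.1 hz).2
      rcases mul_self_eq_mul_self_iff.1 this with h | h <;> simp [h]
    omega
  have hQconj : ∀ a ∈ Q, a ≠ 0 ∧ ∃ n ∈ G₀, n * x = x ^ a.val * n := by
    intro a ha
    obtain ⟨s, hs, rfl⟩ := Finset.mem_image.1 ha
    have hs0 := Finset.ne_of_mem_erase hs
    obtain ⟨n', hn'⟩ := psl_conj_sq (by omega) hord hs0
    obtain ⟨n, hnG, hn⟩ := Subgroup.mem_map.1 (hmap ▸ Subgroup.mem_top n' : n' ∈ G₀.map ψ)
    subst hn
    exact ⟨mul_ne_zero hs0 hs0, n, hnG, lift_conj hsq hx ψ (hker ▸ hxK) (fun h hh => hKx h (hker ▸ hh)) hn'⟩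
  -- irreducibility under the normal closure
  have hnofix : ∀ u, ρ x u = u → u = 0 := fun u hu => by
    by_contra hne
    have := (le_finrank_of_orbit ρ hxp ⊤ (fun _ _ => Submodule.mem_top) Submodule.mem_top hv Q fun a ha => by
      obtain ⟨h0, n, -, hn⟩ := hQconj a ha
      exact ⟨h0, n, hn, fun _ _ => Submodule.mem_top⟩).2 ⟨u, Submodule.mem_top, hne, hu⟩
    rw [finrank_top, Module.finrank_fin_fun] at this
    omega
  have hirr : ∀ W : Submodule ℂ (Fin d → ℂ), (∀ g ∈ G₀, ∀ w ∈ W, ρ g w ∈ W) → W ≠ ⊥ → W = ⊤ := by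
    intro W hW hW0
    obtain ⟨w, hwW, hw0⟩ := Submodule.exists_mem_ne_zero_of_ne_bot hW0
    have := (le_finrank_of_orbit ρ hxp W (fun v hv => hW x hxG₀ v hv) hwW (fun h => hw0 (hnofix w h)) Q fun a ha => by
      obtain ⟨h0, n, hnG, hn⟩ := hQconj a ha
      exact ⟨h0, n, hn, fun u hu => hW n hnG u hu⟩).1
    refine Submodule.eq_top_of_finrank_eq (le_antisymm (Submodule.finrank_le _) ?_)
    rw [Module.finrank_fin_fun]
    omega
  have hKcenter : K ≤ Subgroup.center G := by
    intro h hh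
    have hcent : ∀ g ∈ G₀, Commute h g := fun g hg => by
      have hle : G₀ ≤ Subgroup.centralizer ({h} : Set G) := by
        show Subgroup.closure (Group.conjugatesOfSet ({x} : Set G)) ≤ _
        rw [Subgroup.closure_le]
        intro z hz
        rw [Group.mem_conjugatesOfSet_iff] at hz
        obtain ⟨x', hx', hzc⟩ := hz
        rw [Set.mem_singleton_iff] at hx'
        subst hx'
        obtain ⟨g', rfl⟩ := isConj_iff.1 hzc
        exact Subgroup.mem_centralizer_singleton_iff.2 (hKcomm h hh g').eq.symm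
      exact (Subgroup.mem_centralizer_singleton_iff.1 (hle hg)).symm
    haveI : Nontrivial (Fin d → ℂ) := ⟨v, 0, fun h0 => hv (by rw [h0, map_zero])⟩
    obtain ⟨c, hc⟩ := Module.End.exists_eigenvalue (ρ h : Module.End ℂ (Fin d → ℂ))
    have htop := hirr (Module.End.eigenspace (ρ h : Module.End ℂ (Fin d → ℂ)) c) (fun g hg w hw => by
      rw [Module.End.mem_eigenspace_iff] at hw ⊢
      rw [← Module.End.mul_apply, ← map_mul, (hcent g hg).eq, map_mul, Module.End.mul_apply, hw, map_smul]) hc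
    refine Subgroup.mem_center_iff.2 fun g => hρinj _ _ (LinearMap.ext fun w => ?_)
    have hsc : ∀ w, ρ h w = c • w := fun w => Module.End.mem_eigenspace_iff.1 (htop ▸ Submodule.mem_top)
    rw [map_mul, map_mul, Module.End.mul_apply, Module.End.mul_apply, hsc, hsc, map_smul]
  have hcenterK : Subgroup.center G ≤ K := by
    intro z hz
    rw [← hker, MonoidHom.mem_ker]
    have hzc : ψ z ∈ Subgroup.center (ProjectiveSpecialLinearGroup (Fin 2) (ZMod p)) := by
      refine Subgroup.mem_center_iff.2 fun q => ?_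
      obtain ⟨g, rfl⟩ := hsurj q
      rw [← map_mul, ← map_mul, Subgroup.mem_center_iff.1 hz g]
    rcases (inferInstance : (Subgroup.center (ProjectiveSpecialLinearGroup (Fin 2) (ZMod p))).Normal).eq_bot_or_eq_top with h | h
    · rwa [h, Subgroup.mem_bot] at hzc
    · exfalso
      have h2ne : (2 : ZMod p) ≠ 0 := fun h2 => by
        have := Nat.le_of_dvd (by norm_num) ((CharP.cast_eq_zero_iff (ZMod p) p 2).1 (by simpa using h2))
        omega
      obtain ⟨n, hn⟩ := psl_conj_sq (by omega) hord h2ne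
      rw [← Subgroup.mem_center_iff.1 (h ▸ Subgroup.mem_top n) (ψ x)] at hn
      have h1 : ψ x ^ ((2 : ZMod p) * 2).val = ψ x ^ 1 := by rw [pow_one]; exact (mul_right_cancel hn).symm
      rw [pow_eq_pow_iff_modEq, hord, ← ZMod.natCast_eq_natCast_iff, ZMod.natCast_zmod_val, Nat.cast_one] at h1
      have h3 : ((3 : ℕ) : ZMod p) = 0 := by push_cast; linear_combination h1
      have := Nat.le_of_dvd (by norm_num) ((CharP.cast_eq_zero_iff (ZMod p) p 3).1 h3)
      omega
  exact ⟨(QuotientGroup.quotientMulEquivOfEq ((le_antisymm hcenterK hKcenter).trans hker.symm)).trans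
    (QuotientGroup.quotientKerEquivOfSurjective ψ hsurj)⟩

end CfsgLib.Char.HalfDegree
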