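import Mathlib

/-!
# Summing over the cosets of a subgroup with a single fixed coset

If `x` has order `p` and fixes only the trivial coset of `N`, the sum over the cosets of the
conjugates of a map commuting with `N` differs from that map by a map lowering the filtration by the
kernels of the powers of `x - 1`.
-/

set_option autoImplicit false

namespace CfsgLib.Char.HalfDegree

open scoped Classical

variable {k : Type*} [Field k] {G : Type*} [Group G] [Finite G]
  {W W' : Type*} [AddCommGroup W] [Module k W] [AddCommGroup W'] [Module k W']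
  (ρ : G →* Module.End k W) (ρ' : G →* Module.End k W')

/-- The sum of the conjugates of `φ` over the cosets of `N`. -/
noncomputable def cosetTrace (N : Subgroup G) (φ : W →ₗ[k] W') : W →ₗ[k] W' :=
  letI := Fintype.ofFinite (G ⧸ N)
  ∑ q : G ⧸ N, ρ' q.out ∘ₗ φ ∘ₗ ρ q.out⁻¹

variable {ρ ρ'} {N : Subgroup G} {φ : W →ₗ[k] W'}

omit [Finite G] in
theorem conj_out (hφ : ∀ n ∈ N, φ ∘ₗ ρ n = ρ' n ∘ₗ φ) (g : G) :
    ρ' (g : G ⧸ N).out ∘ₗ φ ∘ₗ ρ (g : G ⧸ N).out⁻¹ = ρ' g ∘ₗ φ ∘ₗ ρ g⁻¹ := by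
  obtain ⟨n, hn⟩ := QuotientGroup.mk_out_eq_mul N g
  rw [hn, map_mul, mul_inv_rev, map_mul, Module.End.mul_eq_comp, Module.End.mul_eq_comp]
  ext w
  simp only [LinearMap.comp_apply]
  have h := congrArg (fun f : W →ₗ[k] W' => f (ρ ((n : G)⁻¹) (ρ g⁻¹ w))) (hφ n n.2)
  simp only [LinearMap.comp_apply, ← Module.End.mul_apply (ρ (n : G)), ← map_mul, mul_inv_cancel, map_one,
    Module.End.one_apply] at h
  rw [← h]

theorem cosetTrace_comp (hφ : ∀ n ∈ N, φ ∘ₗ ρ n = ρ' n ∘ₗ φ) (g : G) :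
    cosetTrace ρ ρ' N φ ∘ₗ ρ g = ρ' g ∘ₗ cosetTrace ρ ρ' N φ := by
  letI := Fintype.ofFinite (G ⧸ N)
  ext w
  simp only [cosetTrace, LinearMap.comp_apply, LinearMap.sum_apply, map_sum]
  refine (Fintype.sum_equiv (MulAction.toPerm g) _ _ fun q => ?_).symm
  simp only [MulAction.toPerm_apply]
  have hq : ((g * q.out : G) : G ⧸ N) = g • q := by
    conv_rhs => rw [← QuotientGroup.out_eq' q]
    rfl
  have h := congrArg (fun f : W →ₗ[k] W' => f (ρ g w)) (conj_out hφ (g * q.out))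
  simp only [hq, LinearMap.comp_apply] at h
  rw [h, map_mul, mul_inv_rev, map_mul, Module.End.mul_apply, Module.End.mul_apply,
    ← Module.End.mul_apply (ρ g⁻¹), ← map_mul, inv_mul_cancel, map_one, Module.End.one_apply]

variable {p : ℕ} [Fact p.Prime] [CharP k p] {x : G}

omit [Fact p.Prime] in
theorem sub_one_pow_eq_geom (hp : p.Prime) {A : Type*} [Ring A] [Algebra k A] (X : A) :
    (X - 1) ^ (p - 1) = ∑ i ∈ Finset.range p, X ^ i := by
  have key : ((Polynomial.X : Polynomial k) - 1) ^ (p - 1) =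
      ∑ i ∈ Finset.range p, (Polynomial.X : Polynomial k) ^ i := by
    haveI : Fact p.Prime := ⟨hp⟩
    refine mul_left_cancel₀ (show (Polynomial.X : Polynomial k) - 1 ≠ 0 from
      Polynomial.X_sub_C_ne_zero 1) ?_
    rw [← pow_succ', Nat.sub_add_cancel hp.one_le, sub_pow_char_of_commute p (Commute.one_right _),
      one_pow, mul_geom_sum]
  have h := congrArg (Polynomial.aeval X) key
  simpa using h

theorem cosetTrace_lowering (hφ : ∀ n ∈ N, φ ∘ₗ ρ n = ρ' n ∘ₗ φ) (hx : orderOf x = p) (hxN : x ∈ N)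
    (hfix : ∀ g : G, g⁻¹ * x * g ∈ N → g ∈ N) (hU : (ρ' x - 1) ^ (p - 1) = 0) (j : ℕ) (w : W)
    (hw : ((ρ x - 1) ^ (j + 1)) w = 0) :
    ((ρ' x - 1) ^ j) (cosetTrace ρ ρ' N φ w - φ w) = 0 := by
  classical
  have hp : p.Prime := Fact.out
  set D := cosetTrace ρ ρ' N φ - φ with hD
  have hDx : ∀ v, (ρ' x) (D v) = D (ρ x v) := fun v => by
    have h1 := congrArg (fun f : W →ₗ[k] W' => f v) (cosetTrace_comp hφ x)
    have h2 := congrArg (fun f : W →ₗ[k] W' => f v) (hφ x hxN)
    simp only [LinearMap.comp_apply] at h1 h2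
    simp [hD, map_sub, h1, h2]
  have hDpow : ∀ (i : ℕ) v, ((ρ' x - 1) ^ i) (D v) = D (((ρ x - 1) ^ i) v) := fun i => by
    induction i with
    | zero => simp
    | succ i ih => intro v; simp [pow_succ', ih, hDx, map_sub]
  show ((ρ' x - 1) ^ j) (D w) = 0
  rw [hDpow]
  set w₀ := ((ρ x - 1) ^ j) w
  have hw₀ : ρ x w₀ = w₀ := by
    rw [pow_succ', Module.End.mul_apply] at hw
    exact sub_eq_zero.1 hw
  have hw₀' : ∀ i : ℕ, ρ (x ^ i)⁻¹ w₀ = w₀ := by
    intro i
    have hi : ρ (x ^ i) w₀ = w₀ := by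
      induction i with
      | zero => simp
      | succ i ih => rw [pow_succ, map_mul, Module.End.mul_apply, hw₀, ih]
    conv_lhs => rw [← hi]
    rw [← Module.End.mul_apply, ← map_mul, inv_mul_cancel, map_one, Module.End.one_apply]
  letI := Fintype.ofFinite (G ⧸ N)
  set F : G ⧸ N → W' := fun q => ρ' q.out (φ (ρ q.out⁻¹ w₀)) with hF
  have hFrep : ∀ g : G, F (g : G ⧸ N) = ρ' g (φ (ρ g⁻¹ w₀)) := fun g =>
    congrArg (fun f : W →ₗ[k] W' => f w₀) (conj_out hφ g)
  have hFpow : ∀ (i : ℕ) q, F (x ^ i • q) = ((ρ' x) ^ i) (F q) := by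
    intro i q
    induction q using QuotientGroup.induction_on with | _ g =>
    rw [show x ^ i • ((g : G) : G ⧸ N) = ((x ^ i * g : G) : G ⧸ N) from rfl, hFrep, hFrep, map_mul,
      mul_inv_rev, map_mul ρ, Module.End.mul_apply, Module.End.mul_apply, hw₀', map_pow]
  set q₀ : G ⧸ N := ((1 : G) : G ⧸ N)
  have hq₀ : x • q₀ = q₀ := QuotientGroup.eq.2 (by simpa using N.inv_mem hxN)
  have hfree : ∀ i < p, ∀ l < p, ∀ q : G ⧸ N, q ≠ q₀ → x ^ i • q = x ^ l • q → i = l := by
    intro i hi l hl q hq he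
    by_contra hne
    apply hq
    obtain ⟨g, rfl⟩ := QuotientGroup.mk_surjective q
    have hst : x ∈ MulAction.stabilizer G ((g : G) : G ⧸ N) := by
      have hm : (x ^ l)⁻¹ * x ^ i ∈ MulAction.stabilizer G ((g : G) : G ⧸ N) := by
        rw [MulAction.mem_stabilizer_iff, mul_smul, he, inv_smul_smul]
      rw [← zpow_natCast, ← zpow_natCast, ← zpow_neg, ← zpow_add] at hm
      have hle : Subgroup.zpowers (x ^ (-(l : ℤ) + i)) ≤ _ := Subgroup.zpowers_le.2 hm
      refine hle ?_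
      have hcop : (p : ℤ).natAbs.Coprime (-(l : ℤ) + i).natAbs := by
        rw [Int.natAbs_natCast, hp.coprime_iff_not_dvd]
        intro hd
        have := Nat.le_of_dvd (by omega) hd
        omega
      obtain ⟨a, b, hab⟩ := Int.isCoprime_iff_nat_coprime.2 hcop
      refine ⟨b, ?_⟩
      show (x ^ (-(l : ℤ) + i)) ^ b = x
      rw [← zpow_mul, show (-(l : ℤ) + i) * b = 1 + (p : ℤ) * (-a) by linear_combination hab, zpow_add,
        zpow_one, zpow_mul, zpow_natCast, ← hx, pow_orderOf_eq_one, one_zpow, mul_one]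
    have hmem : g⁻¹ * x * g ∈ N := by
      have h := QuotientGroup.eq.1 (show ((x * g : G) : G ⧸ N) = (g : G ⧸ N) from hst)
      simpa [mul_assoc] using N.inv_mem h
    exact QuotientGroup.eq.2 (by simpa using hfix g hmem)
  let r := MulAction.orbitRel (Subgroup.zpowers x) (G ⧸ N)
  let c : G ⧸ N → k := fun q => if q ≠ q₀ ∧ (Quotient.mk r q).out = q then 1 else 0
  have hne0 : ∀ (i : ℕ) q, q ≠ q₀ → x ^ i • q ≠ q₀ := by
    intro i q hq he
    refine hq ?_
    have hi : x ^ i • q₀ = q₀ := by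
      exact MulAction.mem_stabilizer_iff.1 (pow_mem (MulAction.mem_stabilizer_iff.2 hq₀) i)
    exact smul_left_cancel (x ^ i) (he.trans hi.symm)
  have hc : ∀ q, ∑ i ∈ Finset.range p, c (x ^ i • q) = if q = q₀ then 0 else 1 := by
    intro q
    by_cases hq : q = q₀
    · subst hq
      rw [if_pos rfl]
      refine Finset.sum_eq_zero fun i _ => if_neg fun h => h.1 ?_
      exact MulAction.mem_stabilizer_iff.1 (pow_mem (MulAction.mem_stabilizer_iff.2 hq₀) i)
    rw [if_neg hq]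
    have horb : ∀ i : ℕ, Quotient.mk r (x ^ i • q) = Quotient.mk r q := fun i =>
      Quotient.sound ⟨⟨x ^ i, Subgroup.npow_mem_zpowers x i⟩, rfl⟩
    obtain ⟨⟨z, hz⟩, hzq⟩ := Quotient.mk_out (s := r) q
    obtain ⟨i₀, hi₀, rfl⟩ : ∃ i < p, x ^ i = z := by
      have hz' := (isOfFinOrder_of_finite x).mem_zpowers_iff_mem_range_orderOf.1 hz
      rw [hx, Finset.mem_image] at hz'
      obtain ⟨i, hi, e⟩ := hz'
      exact ⟨i, Finset.mem_range.1 hi, e⟩
    replace hzq : x ^ i₀ • q = (Quotient.mk r q).out := hzq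
    rw [Finset.sum_eq_single i₀]
    · exact if_pos ⟨hne0 _ _ hq, by rw [horb]; exact hzq.symm⟩
    · intro l hl hne
      refine if_neg fun h => hne ?_
      refine hfree l (Finset.mem_range.1 hl) i₀ hi₀ q hq ?_
      rw [← h.2, horb, hzq]
    · exact fun h => absurd (Finset.mem_range.2 hi₀) h
  have hsum : D w₀ = ∑ q, ∑ i ∈ Finset.range p, c (x ^ i • q) • F q := by
    rw [Finset.sum_congr rfl fun q _ => (Finset.sum_smul.symm.trans (by rw [hc]))]
    simp only [ite_smul, zero_smul, one_smul, Finset.sum_ite, Finset.sum_const_zero, zero_add]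
    rw [hD, LinearMap.sub_apply, cosetTrace, LinearMap.sum_apply,
      ← Finset.sum_filter_add_sum_filter_not Finset.univ (fun q => q = q₀)]
    simp only [Finset.filter_eq', Finset.mem_univ, if_true, Finset.sum_singleton, LinearMap.comp_apply]
    change F q₀ + _ - φ w₀ = _
    rw [show F q₀ = φ w₀ by rw [hFrep]; simp, add_sub_cancel_left]
  rw [hsum, Finset.sum_comm]
  have hrot : ∀ i ∈ Finset.range p, ∑ q, c (x ^ i • q) • F q =
      ((ρ' x) ^ ((p - i) % p)) (∑ q, c q • F q) := by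
    intro i hi
    rw [map_sum]
    refine Fintype.sum_equiv (MulAction.toPerm (x ^ i)) _ _ fun q => ?_
    simp only [MulAction.toPerm_apply, map_smul, hFpow, ← Module.End.mul_apply, ← pow_add]
    rw [← map_pow, show x ^ ((p - i) % p + i) = 1 by
      rw [pow_eq_pow_mod _ (by rw [← hx, pow_orderOf_eq_one] : x ^ p = 1), Nat.mod_add_mod,
        Nat.sub_add_cancel (Finset.mem_range.1 hi).le, Nat.mod_self, pow_zero],
      map_one, Module.End.one_apply]
  rw [Finset.sum_congr rfl hrot, ← LinearMap.sum_apply]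
  have he : ∑ i ∈ Finset.range p, (ρ' x) ^ ((p - i) % p) = ∑ i ∈ Finset.range p, (ρ' x) ^ i := by
    refine Finset.sum_nbij' (fun i => (p - i) % p) (fun i => (p - i) % p) ?_ ?_ ?_ ?_ fun i _ => rfl
    · exact fun i _ => Finset.mem_range.2 (Nat.mod_lt _ hp.pos)
    · exact fun i _ => Finset.mem_range.2 (Nat.mod_lt _ hp.pos)
    all_goals
      intro i hi
      replace hi : i < p := Finset.mem_range.1 (by exact_mod_cast hi)
      rcases Nat.eq_zero_or_pos i with rfl | h
      · simp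
      · simp only [Nat.mod_eq_of_lt (show p - i < p by omega), Nat.sub_sub_self hi.le, Nat.mod_eq_of_lt hi]
  rw [he, ← sub_one_pow_eq_geom (k := k) hp, hU, LinearMap.zero_apply]

theorem cosetTrace_mem {S : Submodule k (W →ₗ[k] W')} (hS : ∀ g : G, ρ' g ∘ₗ φ ∘ₗ ρ g⁻¹ ∈ S) :
    cosetTrace ρ ρ' N φ ∈ S :=
  Submodule.sum_mem S fun _ _ => hS _

end CfsgLib.Char.HalfDegree
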