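import Mathlib

/-!
# A nilpotent endomorphism inside its commutator algebra

For a nilpotent `y` on a space of dimension less than `p - 1` the element `y` is a double
commutator with `y`, and it is not a triple one.
-/

set_option autoImplicit false
set_option maxHeartbeats 800000

namespace CfsgLib.Char.HalfDegree

open Polynomial

variable {k : Type*} [Field k] {V : Type*} [AddCommGroup V] [Module k V]

/-- Commutation with `y`. -/
noncomputable def adMap (y : Module.End k V) : Module.End k (Module.End k V) :=
  LinearMap.mulLeft k y - LinearMap.mulRight k y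

theorem adMap_apply (y w : Module.End k V) : adMap y w = y * w - w * y := rfl

/-- A rank one map attached to powers of `y`. -/
noncomputable def rankOneTerm (y : Module.End k V) (l : V →ₗ[k] k) (v : V) (a b : ℕ) : Module.End k V :=
  (l ∘ₗ (y ^ a)).smulRight ((y ^ b) v)

theorem mul_rankOneTerm (y : Module.End k V) (l : V →ₗ[k] k) (v : V) (a b : ℕ) :
    y * rankOneTerm y l v a b = rankOneTerm y l v a (b + 1) :=
  LinearMap.ext fun w => by simp [rankOneTerm, pow_succ']

theorem rankOneTerm_mul (y : Module.End k V) (l : V →ₗ[k] k) (v : V) (a b : ℕ) :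
    rankOneTerm y l v a b * y = rankOneTerm y l v (a + 1) b :=
  LinearMap.ext fun w => by simp [rankOneTerm, pow_succ]

variable [FiniteDimensional k V]

theorem trace_rankOneTerm (y : Module.End k V) (l : V →ₗ[k] k) (v : V) (a b : ℕ) :
    LinearMap.trace k V (rankOneTerm y l v a b) = l ((y ^ (a + b)) v) := by
  rw [rankOneTerm, LinearMap.trace_smulRight, pow_add]; rfl

/-- Every functional on the endomorphisms is a trace against a fixed endomorphism. -/
theorem exists_trace_eq (lam : Module.End k V →ₗ[k] k) :
    ∃ A : Module.End k V, ∀ w, lam w = LinearMap.trace k V (w * A) := by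
  let Φ : Module.End k V →ₗ[k] (Module.End k V →ₗ[k] k) :=
    ((LinearMap.mul k (Module.End k V)).flip).compr₂ (LinearMap.trace k V)
  have hinj : Function.Injective Φ := (injective_iff_map_eq_zero Φ).2 fun A hA => by
    ext v
    by_contra hne
    obtain ⟨l, hl⟩ := Module.Projective.exists_dual_ne_zero k hne
    have h := congrArg (fun f : Module.End k V →ₗ[k] k => f (LinearMap.smulRight l v)) hA
    have e : (LinearMap.smulRight l v : Module.End k V) * A = LinearMap.smulRight (l ∘ₗ A) v :=
      LinearMap.ext fun w => by simp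
    simp [Φ, e, LinearMap.trace_smulRight] at h
    exact hl h
  obtain ⟨A, hA⟩ := (LinearMap.injective_iff_surjective_of_finrank_eq_finrank
    (Subspace.dual_finrank_eq (K := k) (V := Module.End k V)).symm).1 hinj lam
  exact ⟨A, fun w => by rw [← hA]; rfl⟩

variable {p : ℕ} [CharP k p]

/-- If all positive powers have trace zero and the dimension is small, the map is nilpotent. -/
theorem isNilpotent_of_trace_pow (hV : Module.finrank k V < p) (C : Module.End k V)
    (htr : ∀ j : ℕ, LinearMap.trace k V (C ^ (j + 1)) = 0) : IsNilpotent C := by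
  have hq0 : minpoly k C ≠ 0 := minpoly.ne_zero (IsIntegral.of_finite k C)
  obtain ⟨g, hg, hgd⟩ := exists_eq_pow_rootMultiplicity_mul_and_not_dvd (minpoly k C) hq0 0
  rw [map_zero, sub_zero] at hg hgd
  generalize rootMultiplicity 0 (minpoly k C) = a at hg
  obtain ⟨u, v, huv⟩ : IsCoprime ((X : k[X]) ^ (a + 1)) g :=
    (Polynomial.irreducible_X.coprime_iff_not_dvd.2 hgd).pow_left
  have hlin : ∀ f : k[X], LinearMap.trace k V (aeval C (X * f)) = 0 := by
    intro f
    induction f using Polynomial.induction_on' with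
    | add f g hf hg => rw [mul_add, map_add, map_add, hf, hg, add_zero]
    | monomial n c =>
      rw [← C_mul_X_pow_eq_monomial, ← mul_assoc, mul_comm (X : k[X]), mul_assoc, ← pow_succ', map_mul,
        aeval_C, map_pow, aeval_X, Algebra.algebraMap_eq_smul_one, smul_mul_assoc, one_mul, map_smul,
        htr, smul_zero]
  set P := aeval C (u * X ^ (a + 1)) with hP
  have hvg : aeval C (v * g) = 1 - P := by
    rw [hP, ← aeval_one (R := k) (x := C), ← map_sub]
    congr 1
    linear_combination huv
  have hidem : P * P = P := by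
    have h0 : P * (1 - P) = 0 := by
      rw [← hvg, hP, ← map_mul,
        show u * X ^ (a + 1) * (v * g) = u * X * v * (X ^ a * g) by rw [pow_succ]; ring,
        ← hg, map_mul, minpoly.aeval, mul_zero]
    rw [mul_sub, mul_one, sub_eq_zero] at h0
    exact h0.symm
  have htrP : LinearMap.trace k V P = 0 := by
    rw [hP, show u * X ^ (a + 1) = X * (u * X ^ a) by rw [pow_succ]; ring]
    exact hlin _
  have hproj : LinearMap.IsProj (LinearMap.range P) P := ⟨fun w => ⟨w, rfl⟩, by
    rintro _ ⟨w, rfl⟩
    exact congrArg (fun f : Module.End k V => f w) hidem⟩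
  rw [hproj.trace, CharP.cast_eq_zero_iff k p] at htrP
  have h0 := Nat.eq_zero_of_dvd_of_lt htrP ((Submodule.finrank_le _).trans_lt hV)
  rw [Submodule.finrank_eq_zero, LinearMap.range_eq_bot] at h0
  refine ⟨a, ?_⟩
  rw [h0, sub_zero] at hvg
  calc C ^ a = C ^ a * aeval C (v * g) := by rw [hvg, mul_one]
    _ = aeval C (v * (X ^ a * g)) := by
      rw [← aeval_X_pow (R := k) C (n := a), ← map_mul]; congr 1; ring
    _ = 0 := by rw [← hg, map_mul, minpoly.aeval, mul_zero]

theorem trace_eq_zero_of_adMap_sq (hV : Module.finrank k V < p) {y A : Module.End k V}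
    (hy : IsNilpotent y) (hA : adMap y (adMap y A) = 0) : LinearMap.trace k V (y * A) = 0 := by
  set C := y * A - A * y with hC
  have hcomm : Commute y C := by
    rw [adMap_apply, adMap_apply, sub_eq_zero] at hA
    exact hA
  obtain ⟨N, hN⟩ := isNilpotent_of_trace_pow hV C fun j => by
    rw [pow_succ, show C ^ j * C = C ^ j * y * A - C ^ j * A * y by rw [hC, mul_sub, mul_assoc, mul_assoc],
      map_sub, LinearMap.trace_mul_comm k (C ^ j * A) y, ← (hcomm.pow_right j).eq, mul_assoc, sub_self]
  have hpow : ∀ n : ℕ, y ^ (n + 1) * A = A * y ^ (n + 1) + ((n + 1 : ℕ) : k) • (C * y ^ n) := by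
    intro n
    induction n with
    | zero => simp [hC]
    | succ n ih =>
      have e : y * A = A * y + C := by rw [hC]; abel
      rw [pow_succ' y (n + 1), mul_assoc, ih, mul_add, ← mul_assoc, e, mul_smul_comm, ← mul_assoc y C,
        hcomm.eq, mul_assoc C y, ← pow_succ', add_mul, mul_assoc A y, ← pow_succ', Nat.cast_succ (n + 1),
        add_smul, one_smul]
      abel
  have key : ∀ n : ℕ, ∃ M : ℕ, ∀ w : V, (y ^ n) w = 0 → ((y * A) ^ M) w = 0 := by
    intro n
    induction n with
    | zero => exact ⟨0, fun w hw => by simpa using hw⟩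
    | succ n ih =>
      obtain ⟨M, hM⟩ := ih
      refine ⟨M + N, fun w hw => ?_⟩
      rw [pow_add, Module.End.mul_apply]
      refine hM _ ?_
      have step : ∀ j, (y ^ n) (((y * A) ^ j) w) = ((n + 1 : ℕ) : k) ^ j • (C ^ j) ((y ^ n) w) ∧
          (y ^ (n + 1)) (((y * A) ^ j) w) = 0 := by
        intro j
        induction j with
        | zero => simpa using hw
        | succ j ihj =>
          obtain ⟨h1, h2⟩ := ihj
          have e1 : (y ^ n) (((y * A) ^ (j + 1)) w) =
              ((n + 1 : ℕ) : k) ^ (j + 1) • (C ^ (j + 1)) ((y ^ n) w) := by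
            rw [pow_succ' (y * A), Module.End.mul_apply, ← Module.End.mul_apply (y ^ n), ← mul_assoc,
              ← pow_succ, hpow, LinearMap.add_apply, Module.End.mul_apply, h2, map_zero, zero_add,
              LinearMap.smul_apply, Module.End.mul_apply, h1, map_smul, ← Module.End.mul_apply C,
              ← pow_succ', smul_smul, ← pow_succ']
          refine ⟨e1, ?_⟩
          rw [pow_succ', Module.End.mul_apply, e1, map_smul, ← Module.End.mul_apply,
            (hcomm.pow_right _).eq, Module.End.mul_apply, ← Module.End.mul_apply y, ← pow_succ', hw,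
            map_zero, smul_zero]
      rw [(step N).1, hN, LinearMap.zero_apply, smul_zero]
  obtain ⟨m, hm⟩ := hy
  obtain ⟨M, hM⟩ := key m
  exact (LinearMap.isNilpotent_trace_of_isNilpotent
    ⟨M, LinearMap.ext fun w => hM w (by rw [hm, LinearMap.zero_apply])⟩).eq_zero

/-- A nilpotent element is a double commutator with itself. -/
theorem exists_adMap_sq_eq (hV : Module.finrank k V < p) {y : Module.End k V} (hy : IsNilpotent y) :
    ∃ w, adMap y (adMap y w) = y := by
  by_contra h
  push Not at h
  have hnot : y ∉ LinearMap.range (adMap y ∘ₗ adMap y) := fun ⟨w, hw⟩ => h w hw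
  obtain ⟨lam, hlam, hker⟩ := Submodule.exists_dual_map_eq_bot_of_notMem hnot inferInstance
  obtain ⟨A, hA⟩ := exists_trace_eq lam
  have hadj : ∀ w B : Module.End k V, LinearMap.trace k V (adMap y w * B) =
      - LinearMap.trace k V (w * adMap y B) := fun w B => by
    simp only [adMap_apply, sub_mul, mul_sub, map_sub, neg_sub, mul_assoc]
    rw [LinearMap.trace_mul_comm k y (w * B), mul_assoc]
  have hA2 : adMap y (adMap y A) = 0 := by
    obtain ⟨B, hB⟩ : ∃ B, B = adMap y (adMap y A) := ⟨_, rfl⟩
    rw [← hB]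
    ext v
    by_contra hne
    obtain ⟨l, hl⟩ := Module.Projective.exists_dual_ne_zero k hne
    refine hl ?_
    have h1 : lam (adMap y (adMap y (LinearMap.smulRight l v))) = 0 :=
      (Submodule.eq_bot_iff _).1 hker _ ⟨_, ⟨_, rfl⟩, rfl⟩
    rw [hA, hadj, hadj, neg_neg, ← hB] at h1
    rw [show (LinearMap.smulRight l v : Module.End k V) * B = LinearMap.smulRight (l ∘ₗ B) v from
      LinearMap.ext fun w => by simp, LinearMap.trace_smulRight] at h1
    exact h1
  exact hlam (by rw [hA]; exact trace_eq_zero_of_adMap_sq hV hy hA2)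

/-- A non-zero nilpotent element is not a triple commutator with itself. -/
theorem adMap_cube_ne (hp : p.Prime) (hV : Module.finrank k V + 1 < p) {y : Module.End k V} (hy : IsNilpotent y)
    (hy0 : y ≠ 0) (w : Module.End k V) : adMap y (adMap y (adMap y w)) ≠ y := by
  classical
  obtain ⟨m, hm1, hm0, hmV⟩ : ∃ m, y ^ (m + 1) = 0 ∧ y ^ m ≠ 0 ∧ m + 1 ≤ Module.finrank k V := by
    have hnV : y ^ Module.finrank k V = 0 := by
      have := LinearMap.aeval_self_charpoly y
      rwa [hy.charpoly_eq_X_pow_finrank, map_pow, aeval_X] at this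
    have hex : ∃ n, y ^ n = 0 := ⟨_, hnV⟩
    have h1 : Nat.find hex ≠ 0 := fun h => by
      have h' := Nat.find_spec hex
      rw [h, pow_zero] at h'
      exact hy0 (by rw [← mul_one y, h', mul_zero])
    refine ⟨Nat.find hex - 1, ?_, Nat.find_min hex (by omega), ?_⟩
    · rw [Nat.sub_add_cancel (by omega)]; exact Nat.find_spec hex
    · have := Nat.find_le (h := hex) hnV
      omega
  have hm : 1 ≤ m := Nat.pos_of_ne_zero fun h => hy0 (by simpa [h] using hm1)
  obtain ⟨v, hv⟩ : ∃ v, (y ^ m) v ≠ 0 := by
    by_contra hcon; push Not at hcon; exact hm0 (LinearMap.ext hcon)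
  obtain ⟨l₀, hl₀⟩ := Module.Projective.exists_dual_ne_zero k hv
  obtain ⟨l, hl⟩ : ∃ l : V →ₗ[k] k, l ((y ^ m) v) = 1 :=
    ⟨(l₀ ((y ^ m) v))⁻¹ • l₀, inv_mul_cancel₀ hl₀⟩
  set E := rankOneTerm y l v with hE
  have hbig : ∀ a b, (m + 1 ≤ a ∨ m + 1 ≤ b) → E a b = 0 := by
    rintro a b (h | h) <;> ext w <;> simp [hE, rankOneTerm, pow_eq_zero_of_le h hm1]
  set A := ∑ i ∈ Finset.range m, (((i : k) + 1) * ((m : k) - i)) • E (m - 1 - i) i with hA
  have h1 : adMap y A = ∑ i ∈ Finset.range (m + 1), (2 * (i : k) - m) • E (m - i) i := by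
    have ha : y * A = ∑ i ∈ Finset.range (m + 1), ((i : k) * ((m : k) + 1 - i)) • E (m - i) i := by
      rw [Finset.sum_range_succ', hA, Finset.mul_sum]
      simp only [Nat.cast_zero, zero_mul, zero_smul, add_zero, mul_smul_comm, hE, mul_rankOneTerm]
      refine Finset.sum_congr rfl fun i hi => ?_
      rw [show m - 1 - i = m - (i + 1) by omega]
      congr 1
      push_cast; ring
    have hb : A * y = ∑ i ∈ Finset.range (m + 1), (((i : k) + 1) * ((m : k) - i)) • E (m - i) i := by
      rw [Finset.sum_range_succ, sub_self, mul_zero, zero_smul, add_zero, hA, Finset.sum_mul]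
      refine Finset.sum_congr rfl fun i hi => ?_
      rw [smul_mul_assoc, hE, rankOneTerm_mul, show m - 1 - i + 1 = m - i by simp at hi; omega]
    rw [adMap_apply, ha, hb, ← Finset.sum_sub_distrib]
    refine Finset.sum_congr rfl fun i _ => ?_
    rw [← sub_smul]; congr 1; ring
  have hshift : ∀ c : ℕ → k, adMap y (∑ i ∈ Finset.range (m + 1), c i • E (m - i) i) =
      ∑ i ∈ Finset.range m, (c i - c (i + 1)) • E (m - i) (i + 1) := by
    intro c
    rw [adMap_apply, Finset.mul_sum, Finset.sum_mul]
    simp only [mul_smul_comm, smul_mul_assoc, hE, mul_rankOneTerm, rankOneTerm_mul]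
    rw [Finset.sum_range_succ (fun i => c i • rankOneTerm y l v (m - i) (i + 1)),
      Finset.sum_range_succ' (fun i => c i • rankOneTerm y l v (m - i + 1) i), ← hE,
      hbig _ (m + 1) (Or.inr le_rfl), hbig (m - 0 + 1) _ (Or.inl (by omega)), smul_zero, smul_zero, add_zero,
      add_zero, ← Finset.sum_sub_distrib]
    refine Finset.sum_congr rfl fun i hi => ?_
    rw [show m - (i + 1) + 1 = m - i by simp at hi; omega, sub_smul]
  have h3 : adMap y (adMap y (adMap y A)) = 0 := by
    have hP : adMap y (∑ i ∈ Finset.range (m + 1), (1 : k) • E (m - i) i) = 0 := by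
      rw [hshift]; simp
    rw [h1, hshift]
    have e : ∑ i ∈ Finset.range m, (2 * (i : k) - m - (2 * ((i + 1 : ℕ) : k) - m)) • E (m - i) (i + 1) =
        (-2 : k) • (y * ∑ i ∈ Finset.range (m + 1), (1 : k) • E (m - i) i) := by
      rw [Finset.mul_sum, Finset.smul_sum, Finset.sum_range_succ]
      rw [mul_smul_comm (1 : k) y (E (m - m) m), hE, mul_rankOneTerm, ← hE, hbig _ _ (Or.inr le_rfl),
        smul_zero, smul_zero, add_zero]
      refine Finset.sum_congr rfl fun i _ => ?_
      rw [mul_smul_comm, one_smul, hE, mul_rankOneTerm]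
      congr 1
      push_cast; ring
    rw [e, map_smul, adMap_apply, mul_assoc, ← mul_sub, ← adMap_apply, hP, mul_zero, smul_zero]
  intro hcon
  have h0 : LinearMap.trace k V (y * A) = 0 := by
    have hadj : ∀ w B : Module.End k V, LinearMap.trace k V (adMap y w * B) =
        - LinearMap.trace k V (w * adMap y B) := fun w B => by
      simp only [adMap_apply, sub_mul, mul_sub, map_sub, neg_sub, mul_assoc]
      rw [LinearMap.trace_mul_comm k y (w * B), mul_assoc]
    rw [← hcon, hadj, hadj, hadj, h3, mul_zero, map_zero, neg_zero, neg_zero, neg_zero]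
  rw [hA, Finset.mul_sum, map_sum] at h0
  simp only [mul_smul_comm, map_smul, hE, mul_rankOneTerm, trace_rankOneTerm, smul_eq_mul] at h0
  rw [Finset.sum_congr rfl (fun i hi => by
    rw [show m - 1 - i + (i + 1) = m by simp at hi; omega, hl, mul_one])] at h0
  have hsum : ∀ M : k, ∀ n : ℕ, 6 * ∑ i ∈ Finset.range n, ((i : k) + 1) * (M - i) =
      (n : k) * ((n : k) + 1) * (3 * M + 2 - 2 * n) := by
    intro M n
    induction n with
    | zero => simp
    | succ n ih => rw [Finset.sum_range_succ, mul_add, ih]; push_cast; ring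
  have h := hsum (m : k) m
  rw [h0, mul_zero] at h
  have hprod : ((m * (m + 1) * (m + 2) : ℕ) : k) = 0 := by push_cast; linear_combination -h
  rw [CharP.cast_eq_zero_iff k p] at hprod
  rcases hp.dvd_mul.1 hprod with h' | h'
  · rcases hp.dvd_mul.1 h' with h'' | h'' <;> have := Nat.le_of_dvd (by omega) h'' <;> omega
  · have := Nat.le_of_dvd (by omega) h'; omega

end CfsgLib.Char.HalfDegree
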