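import Cfsg.Agent.Lib.Char.HalfDegree.NilSquare

/-!
# The logarithm of an element of order `p` and conjugation

`logEl x = ∑ a⁻¹ • x ^ a` is an eigenvector of every automorphism moving `x` to a power.  Conjugation
by `x` minus one and commutation with `logEl x` differ by invertible commuting factors.
-/

set_option autoImplicit false
set_option maxHeartbeats 800000

namespace CfsgLib.Char.HalfDegree

open Polynomial

section Log

variable {k : Type*} [Field k] {p : ℕ} [Fact p.Prime] [CharP k p] {A : Type*} [Ring A] [Algebra k A]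

/-- The logarithm of an element killed by `p`. -/
noncomputable def logEl (k : Type*) [Field k] (p : ℕ) [Fact p.Prime] [CharP k p] {A : Type*} [Ring A]
    [Algebra k A] (x : A) : A :=
  ∑ a : ZMod p, (ZMod.castHom (dvd_refl p) k a⁻¹) • x ^ a.val

theorem exists_one_add_X_pow (n : ℕ) :
    ∃ r : k[X], ((1 : k[X]) + X) ^ n = 1 + (n : k[X]) * X + X ^ 2 * r := by
  induction n with
  | zero => exact ⟨0, by simp⟩
  | succ n ih =>
    obtain ⟨r, hr⟩ := ih
    exact ⟨r + (n : k[X]) + X * r, by rw [pow_succ, hr]; push_cast; ring⟩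

theorem exists_pow_sub_one {x : A} (n : ℕ) :
    ∃ R : A, x ^ n - 1 = (n : k) • (x - 1) + (x - 1) ^ 2 * R ∧ Commute (x - 1) R := by
  obtain ⟨r, hr⟩ := exists_one_add_X_pow (k := k) n
  refine ⟨aeval (x - 1) r, ?_, ?_⟩
  · have h := congrArg (aeval (x - 1)) hr
    simp only [map_pow, map_add, map_one, map_mul, map_natCast, aeval_X, add_sub_cancel] at h
    rw [h, Algebra.smul_def, map_natCast]
    abel
  · have h := (Commute.all (X : k[X]) r).map (aeval (x - 1))
    rwa [aeval_X] at h

theorem exists_logEl_expansion (hp2 : p ≠ 2) (x : A) :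
    ∃ r : k[X], logEl k p x = -(x - 1) + (x - 1) ^ 2 * aeval (x - 1) r := by
  classical
  choose r hr using exists_one_add_X_pow (k := k)
  set ι := ZMod.castHom (dvd_refl p) k with hι
  refine ⟨∑ a : ZMod p, C (ι a⁻¹) * r a.val, ?_⟩
  have h0 : ∑ a : ZMod p, ι a⁻¹ = 0 := by
    rw [← map_sum]
    have e : ∑ a : ZMod p, a⁻¹ = ∑ a : ZMod p, (-a)⁻¹ :=
      (Equiv.sum_comp (Equiv.neg (ZMod p)) (fun a => a⁻¹)).symm
    simp only [inv_neg, Finset.sum_neg_distrib] at e
    have h2 : (2 : ZMod p) ≠ 0 := fun h => hp2 ((Nat.prime_dvd_prime_iff_eq Fact.out Nat.prime_two).1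
      ((CharP.cast_eq_zero_iff (ZMod p) p 2).1 (by simpa using h)))
    rw [show ∑ a : ZMod p, a⁻¹ = 0 from
      (mul_eq_zero.1 (by linear_combination e : (2 : ZMod p) * ∑ a : ZMod p, a⁻¹ = 0)).resolve_left h2,
      map_zero]
  have h1 : ∑ a : ZMod p, ι a⁻¹ * (a.val : k) = -1 := by
    have e : ∀ a : ZMod p, ι a⁻¹ * (a.val : k) = if a = 0 then 0 else 1 := fun a => by
      rw [show (a.val : k) = ι a by rw [← map_natCast ι, ZMod.natCast_zmod_val], ← map_mul]
      split_ifs with h
      · simp [h]
      · rw [inv_mul_cancel₀ h, map_one]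
    rw [Finset.sum_congr rfl fun a _ => e a, Finset.sum_ite, Finset.sum_const_zero, zero_add,
      Finset.sum_const, nsmul_one, Finset.filter_ne', Finset.card_erase_of_mem (Finset.mem_univ _),
      Finset.card_univ, ZMod.card, Nat.cast_sub (Fact.out : p.Prime).one_le, CharP.cast_eq_zero, Nat.cast_one,
      zero_sub]
  have hterm : ∀ a : ZMod p, ι a⁻¹ • x ^ a.val = ι a⁻¹ • (1 : A) +
      ((ι a⁻¹ * (a.val : k)) • (x - 1) + (x - 1) ^ 2 * aeval (x - 1) (C (ι a⁻¹) * r a.val)) := fun a => by
    have h := congrArg (aeval (x - 1)) (hr a.val)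
    simp only [map_pow, map_add, map_one, map_mul, map_natCast, aeval_X, add_sub_cancel] at h
    rw [h, map_mul, aeval_C, ← Algebra.smul_def, mul_smul_comm, smul_add, smul_add, mul_smul,
      Nat.cast_smul_eq_nsmul, nsmul_eq_mul, add_assoc]
  rw [logEl, ← hι, Finset.sum_congr rfl fun a _ => hterm a, Finset.sum_add_distrib, ← Finset.sum_smul,
    h0, zero_smul, zero_add, Finset.sum_add_distrib, ← Finset.sum_smul, h1, neg_one_smul,
    ← Finset.mul_sum, ← map_sum]

/-- The logarithm follows an element moving `x` to a power. -/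
theorem mul_logEl {x z : A} (hxp : x ^ p = 1) {b : ZMod p} (hb : b ≠ 0) (hz : z * x = x ^ b.val * z) :
    z * logEl k p x = ZMod.castHom (dvd_refl p) k b • (logEl k p x * z) := by
  have hsc : ∀ n : ℕ, z * x ^ n = (x ^ b.val) ^ n * z := fun n =>
    (show SemiconjBy z x (x ^ b.val) from hz).pow_right n
  have hval : ∀ a : ZMod p, (x ^ b.val) ^ a.val = x ^ (b * a).val := fun a => by
    rw [← pow_mul, ZMod.val_mul, pow_eq_pow_mod _ hxp]
  rw [logEl, Finset.mul_sum, Finset.sum_mul, Finset.smul_sum]
  refine Fintype.sum_equiv (Equiv.mulLeft₀ b hb) _ _ fun a => ?_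
  rw [mul_smul_comm, hsc, hval, smul_mul_assoc, smul_smul, ← map_mul]
  simp only [Equiv.mulLeft₀_apply, mul_inv, ← mul_assoc, mul_inv_cancel₀ hb, one_mul]

end Log

section Conj

variable {k : Type*} [Field k] {p : ℕ} [Fact p.Prime] [CharP k p]
  {V : Type*} [AddCommGroup V] [Module k V] [FiniteDimensional k V]

/-- Conjugation by an invertible element. -/
noncomputable def conjMap (x x' : Module.End k V) : Module.End k (Module.End k V) :=
  LinearMap.mulLeft k x * LinearMap.mulRight k x'

omit [FiniteDimensional k V] in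
theorem conjMap_apply (x x' w : Module.End k V) : conjMap x x' w = x * w * x' := by
  simp [conjMap, mul_assoc]

omit [FiniteDimensional k V] in
theorem mulRight_aeval (u : Module.End k V) (r : k[X]) :
    LinearMap.mulRight k (aeval u r) = aeval (LinearMap.mulRight k u) r := by
  induction r using Polynomial.induction_on' with
  | add f g hf hg => rw [map_add, map_add, ← hf, ← hg]; ext w; simp [mul_add]
  | monomial n c =>
    rw [aeval_monomial, aeval_monomial, LinearMap.pow_mulRight, ← Algebra.smul_def, ← Algebra.smul_def]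
    ext w; simp

omit [FiniteDimensional k V] in
theorem mulLeft_aeval (u : Module.End k V) (r : k[X]) :
    LinearMap.mulLeft k (aeval u r) = aeval (LinearMap.mulLeft k u) r :=
  (Polynomial.aeval_algHom_apply (Algebra.lmul k (Module.End k V)) u r).symm

theorem exists_unit_factor (hp2 : p ≠ 2) (x : Module.End k V) (hu : IsNilpotent (x - 1)) :
    ∃ Q : Module.End k (Module.End k V), IsUnit Q ∧ Commute (adMap (x - 1)) Q ∧
      adMap (logEl k p x) = adMap (x - 1) * Q := by
  obtain ⟨r, hr⟩ := exists_logEl_expansion (k := k) hp2 x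
  generalize x - 1 = u at hu hr ⊢
  set L := LinearMap.mulLeft k u with hL
  set R := LinearMap.mulRight k u with hR
  have hcomm : ∀ a ∈ ({L, R} : Set (Module.End k (Module.End k V))), ∀ b ∈ ({L, R} : Set _),
      a * b = b * a := by
    rintro a (rfl | rfl) b (rfl | rfl) <;> first | rfl | (ext w; simp [hL, hR, mul_assoc])
  let S := Algebra.adjoin k ({L, R} : Set (Module.End k (Module.End k V)))
  letI : CommRing S := Algebra.adjoinCommRingOfComm k hcomm
  let L' : S := ⟨L, Algebra.subset_adjoin (by simp)⟩
  let R' : S := ⟨R, Algebra.subset_adjoin (by simp)⟩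
  obtain ⟨D, hD⟩ : L' - R' ∣ aeval L' r - aeval R' r := by
    rw [aeval_def, aeval_def, ← eval_map, ← eval_map]
    exact sub_dvd_eval_sub _ _ _
  obtain ⟨m, hm⟩ := hu
  have nL : IsNilpotent L' := ⟨m, Subtype.ext (by simp [L', hL, hm, LinearMap.pow_mulLeft])⟩
  have nR : IsNilpotent R' := ⟨m, Subtype.ext (by simp [R', hR, hm, LinearMap.pow_mulRight])⟩
  let N : S := (L' + R') * aeval L' r + R' ^ 2 * D
  have hN : IsNilpotent N := by
    refine Commute.isNilpotent_add (Commute.all _ _) ?_ ?_
    · exact Commute.isNilpotent_mul_right (Commute.all _ _) (Commute.isNilpotent_add (Commute.all _ _) nL nR)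
    · exact Commute.isNilpotent_mul_right (Commute.all _ _) (nR.pow_of_pos two_ne_zero)
  have hunit : IsUnit (-1 + N) := by
    rw [← sub_eq_neg_add]
    exact hN.isUnit_sub_one
  refine ⟨S.val (-1 + N), hunit.map S.val, ?_, ?_⟩
  · show Commute (S.val (L' - R')) (S.val (-1 + N))
    exact (Commute.all _ _).map S.val
  · have key : -(L' - R') + (L' ^ 2 * aeval L' r - R' ^ 2 * aeval R' r) = (L' - R') * (-1 + N) := by
      linear_combination R' ^ 2 * hD
    have h := congrArg S.val key
    simp only [map_add, map_neg, map_sub, map_mul, map_pow, ← Polynomial.aeval_algHom_apply] at h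
    have e1 : adMap (logEl k p x) = -(L - R) + (L ^ 2 * aeval L r - R ^ 2 * aeval R r) := by
      rw [hL, hR, ← mulLeft_aeval, ← mulRight_aeval, LinearMap.pow_mulLeft, LinearMap.pow_mulRight, hr]
      ext w
      have hc : Commute (u ^ 2) (aeval u r) := by
        rw [← aeval_X (R := k) u, ← map_pow, aeval_X]
        exact (Commute.all (X ^ 2) r).map (aeval u)
      simp only [adMap_apply, LinearMap.add_apply, LinearMap.neg_apply, LinearMap.sub_apply,
        Module.End.mul_apply, LinearMap.mulLeft_apply, LinearMap.mulRight_apply, mul_add, add_mul, mul_neg,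
        neg_mul, mul_assoc, ← hc.eq]
      abel
    rw [e1]
    simp only [map_add, map_neg, map_one] at h ⊢
    exact h

/-- The properties of the logarithm needed later. -/
theorem conj_data (hV : 2 * Module.finrank k V + 1 ≤ p) {x x' : Module.End k V} (hxx : x * x' = 1)
    (hxp : x ^ p = 1) (hx : x ≠ 1) :
    (conjMap x x' - 1) ^ (p - 2) = 0 ∧ (conjMap x x' - 1) (logEl k p x) = 0 ∧
      (∃ w, ((conjMap x x' - 1) ^ 2 : Module.End k (Module.End k V)) w = logEl k p x) ∧
      (∀ w, ((conjMap x x' - 1) ^ 3 : Module.End k (Module.End k V)) w ≠ logEl k p x) ∧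
      ∀ z, Commute z (logEl k p x) → Commute z x := by
  have hpp : p.Prime := Fact.out
  have hp3 : 3 ≤ p := by
    rcases Nat.eq_zero_or_pos (Module.finrank k V) with h | h
    · have := Module.finrank_zero_iff.1 h
      exact absurd (Subsingleton.elim x 1) hx
    · omega
  haveI : Nontrivial (Module.End k V) := ⟨x, 1, hx⟩
  haveI : CharP (Module.End k V) p :=
    charP_of_injective_algebraMap (FaithfulSMul.algebraMap_injective k (Module.End k V)) p
  have hnil : IsNilpotent (x - 1) :=
    ⟨p, by rw [sub_pow_char_of_commute p (Commute.one_right x), hxp, one_pow, sub_self]⟩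
  have hu : (x - 1) ^ Module.finrank k V = 0 := by
    have := LinearMap.aeval_self_charpoly (x - 1)
    rwa [hnil.charpoly_eq_X_pow_finrank, map_pow, aeval_X] at this
  obtain ⟨Q, hQ, hcQ, hQe⟩ := exists_unit_factor (k := k) (p := p) (by omega) x hnil
  have hxx' : x' * x = 1 := mul_eq_one_comm.1 hxx
  set D := adMap (x - 1) with hD
  set T := LinearMap.mulRight k x' with hT
  have hTu : IsUnit T := ⟨⟨T, LinearMap.mulRight k x,
    by ext w; simp [hT, mul_assoc, hxx], by ext w; simp [hT, mul_assoc, hxx']⟩, rfl⟩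
  have hcx : x' * (x - 1) = (x - 1) * x' := by rw [mul_sub, sub_mul, hxx, hxx', mul_one, one_mul]
  have hcT : Commute D T := LinearMap.ext fun w => by
    simp [hD, hT, adMap_apply, sub_mul, mul_assoc, hcx]
  have hU : conjMap x x' - 1 = D * T := LinearMap.ext fun w => by
    simp [hD, hT, adMap_apply, conjMap_apply, sub_mul, mul_sub, mul_assoc, hxx']
  have hDn : D ^ (p - 2) = 0 := by
    rw [hD, adMap, sub_eq_add_neg]
    refine Commute.add_pow_eq_zero_of_add_le_succ_of_pow_eq_zero
      (@Commute.neg_right (Module.End k (Module.End k V)) _ _ _ _ (LinearMap.commute_mulLeft_right _ _))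
      (m := Module.finrank k V) (n := Module.finrank k V)
      ?_ ?_ (by omega)
    · rw [LinearMap.pow_mulLeft, hu]; ext; simp
    · refine (neg_pow (R := Module.End k (Module.End k V)) (LinearMap.mulRight k (x - 1)) _).trans ?_
      rw [LinearMap.pow_mulRight, hu]; ext; simp
  have hinv : ∀ {F : Module.End k (Module.End k V)}, IsUnit F → ∀ v, ∃ w, F w = v := fun hF v => by
    obtain ⟨F, rfl⟩ := hF
    exact ⟨(↑F⁻¹ : Module.End k (Module.End k V)) v, by rw [← Module.End.mul_apply, F.mul_inv, Module.End.one_apply]⟩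
  have hinj : ∀ {F : Module.End k (Module.End k V)}, IsUnit F → ∀ v, F v = 0 → v = 0 := fun hF v h => by
    obtain ⟨F, rfl⟩ := hF
    have e := congrArg (fun f : Module.End k (Module.End k V) => f v) F.inv_mul
    simp only [Module.End.mul_apply, Module.End.one_apply, h, map_zero] at e
    exact e.symm
  have hy : IsNilpotent (logEl k p x) := by
    obtain ⟨r, hr⟩ := exists_logEl_expansion (k := k) (p := p) (by omega) x
    rw [hr, pow_two, mul_assoc, show -(x - 1) + (x - 1) * ((x - 1) * aeval (x - 1) r) =
      (x - 1) * (-1 + (x - 1) * aeval (x - 1) r) by rw [mul_add, mul_neg_one]]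
    refine Commute.isNilpotent_mul_right ?_ hnil
    refine Commute.add_right (Commute.neg_right (Commute.one_right _)) (Commute.mul_right (Commute.refl _) ?_)
    have h := (Commute.all (X : k[X]) r).map (aeval (x - 1))
    rwa [aeval_X] at h
  have hcomm : ∀ z, Commute z (logEl k p x) → Commute z x := by
    intro z hz
    have h0 : adMap (logEl k p x) z = 0 := by rw [adMap_apply, hz.eq, sub_self]
    rw [hQe, hcQ.eq, Module.End.mul_apply] at h0
    have h1 := hinj hQ _ h0
    rw [hD, adMap_apply, sub_mul, mul_sub, one_mul, mul_one, sub_sub_sub_cancel_right, sub_eq_zero] at h1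
    exact h1.symm
  have hy0 : logEl k p x ≠ 0 := by
    intro h
    have hall : ∀ z : Module.End k V, z * (x - 1) = (x - 1) * z := fun z => by
      have := hcomm z (by rw [h]; exact Commute.zero_right z)
      rw [mul_sub, sub_mul, this.eq, mul_one, one_mul]
    apply hx
    rw [← sub_eq_zero]
    ext v
    by_contra hne
    obtain ⟨l, hl⟩ := Module.Projective.exists_dual_ne_zero k hne
    -- a central nilpotent endomorphism of a vector space is zero
    have hstep : ∀ j, ((x - 1) ^ j : Module.End k V) v ≠ 0 := by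
      intro j
      induction j with
      | zero => intro h0; exact hne (by simp only [pow_zero, Module.End.one_apply] at h0; rw [h0]; simp)
      | succ j ih =>
        intro h0
        apply ih
        have e := congrArg (fun f : Module.End k V => f v)
          (hall (LinearMap.smulRight l (((x - 1) ^ j) v)))
        simp only [Module.End.mul_apply, LinearMap.smulRight_apply, map_smul] at e
        rw [← Module.End.mul_apply (x - 1), ← pow_succ', h0, smul_zero] at e
        exact (smul_eq_zero.1 e).resolve_left hl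
    exact hstep _ (by rw [hu]; rfl)
  refine ⟨?_, ?_, ?_, ?_, hcomm⟩
  · rw [hU, hcT.mul_pow, hDn, zero_mul]
  · rw [hU, hcT.eq, Module.End.mul_apply]
    have h0 : adMap (logEl k p x) (logEl k p x) = 0 := sub_self _
    rw [hQe, hcQ.eq, Module.End.mul_apply] at h0
    rw [hinj hQ _ h0, map_zero]
  · obtain ⟨w, hw⟩ := exists_adMap_sq_eq (p := p) (by omega : Module.finrank k V < p) hy
    rw [← Module.End.mul_apply, hQe, ← pow_two, hcQ.mul_pow, Module.End.mul_apply] at hw
    obtain ⟨w', hw'⟩ := hinv (hTu.pow 2) ((Q ^ 2) w)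
    exact ⟨w', by rw [hU, hcT.mul_pow, Module.End.mul_apply, hw', hw]⟩
  · intro w hw
    rw [hU, hcT.mul_pow, Module.End.mul_apply] at hw
    obtain ⟨w', hw'⟩ := hinv (hQ.pow 3) ((T ^ 3) w)
    rw [← hw', ← Module.End.mul_apply, ← hcQ.mul_pow, ← hQe] at hw
    refine adMap_cube_ne hpp (by omega : Module.finrank k V + 1 < p) hy hy0 w' ?_
    simpa [pow_succ, Module.End.mul_apply] using hw

end Conj

end CfsgLib.Char.HalfDegree
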